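import Cfsg.Agent.H972.CS.Main
import Cfsg.Agent.H166.EP.CBound
import Cfsg.Agent.BpExc.Sig
import Cfsg.Agent.H931.KC.Alcove

/-!
# The centraliser formula for the untwisted groups over a finite field (helper82, S5745)

* `bound_untw` : helper972's formula (`H972/CS/Main.lean`) for `D.group F`, `F` finite, in the coordinates of `D`;
* `Rk`, `meets_rk` : the representatives given by the alcove points (Kac coordinates of degree `s`);
* `det_le` : the factor of the torus is at most `(q + 1)^l`;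
* `val_le` : the crude bound `(q + 1)^l q^(2 |Ψ+|) |W|`.
-/

set_option autoImplicit false
set_option linter.unusedSectionVars false

namespace Cfsg.Agent.H82.TS.Untw

open CoxeterSystem Cfsg Cfsg.Lie Cfsg.Lie.ChevalleyDatum
open Cfsg.Agent.ChevalleyStructure Cfsg.Agent.ChevalleyStructure.Elts Cfsg.Agent.ChevalleyStructure.CoxeterGeom
  Cfsg.Agent.ChevalleyStructure.CoxeterGeomTypes Cfsg.Agent.ChevalleyStructure.NPerm
open Cfsg.Agent.Tits.Roots Cfsg.Agent.Tits.Core Cfsg.Agent.Nodes Cfsg.Agent.Nodes.Reps Cfsg.Agent.Nodes.BNOf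
  Cfsg.Agent.Nodes.RGDChev
open Cfsg.Agent.KFacts.RgdField Cfsg.Agent.KFacts.RgdChevCoord
open Cfsg.Agent.BpExc Cfsg.Agent.BpExc.TorCent Cfsg.Agent.BpExc.TorChev Cfsg.Agent.BpExc.Tow
  Cfsg.Agent.BpExc.TowChev Cfsg.Agent.BpExc.Fr Cfsg.Agent.BpExc.Pair Cfsg.Agent.BpExc.LangFr Cfsg.Agent.GpExc.Field
  Cfsg.Agent.BpExc.NInst Cfsg.Agent.BpExc.NChev Cfsg.Agent.H129.TorusChar Cfsg.Agent.H129.TorusMain
  Cfsg.Agent.H129.TorusUntw Cfsg.Agent.H972.CS Cfsg.Agent.H972.CS.Count Cfsg.Agent.H972.CS.Torus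
  Cfsg.Agent.H972.CS.Main

universe u

variable {D : ChevalleyDatum} {l : ℕ} {M : CoxeterMatrix (Fin l)} (hp : IsType D l M)
  {W : Type*} [Group W] (cs : CoxeterSystem M W)

/-- **The formula for `D.group F`.** -/
theorem bound_untw {F : Type u} [Field F] [Finite F] {s : ℕ} (hs : s.Prime) (hsF : (s : F) ≠ 0)
    {d' : ℕ} {B' : Fin l → Fin l → ℤ} (hB : InvC D l d' B') (hd' : d' ≠ 0)
    {Rf : Set ((Fin l → ℤ) →+ ZMod s)} (hRf : Meets hp cs Rf) (x : ↥(D.group F)) (hxs : x ^ s = 1) (hx1 : x ≠ 1) :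
    ∃ f ∈ Rf, f ≠ 0 ∧ ∃ w : W, Pair hp cs (AddEquiv.refl _) (Nat.card F) s f w ∧
      ∀ Cw : Finset W, Cov hp cs (AddEquiv.refl _) f w Cw →
        Nat.card ↥(Subgroup.centralizer {x}) ≤ val hp cs (AddEquiv.refl _) (Nat.card F) f w Cw := by
  have := Fintype.ofFinite F
  obtain ⟨k, _, _, f, r, _, _, e, hk, hA, he, hF⟩ := H378.TorFin.exists_closure F
  have hsr : s ≠ r := by
    rintro rfl
    apply hsF
    apply f.injective
    rw [map_natCast, map_zero, CharP.cast_eq_zero]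
  have hq : Fintype.card F = r ^ e := by rw [← Nat.card_eq_fintype_card]; exact hF
  have hxe : (emb hp.inList f x) ^ s = 1 := by rw [← map_pow, hxs, map_one]
  obtain ⟨z, hz⟩ := TorAll.exists_toral hp r hA hs hsr hxe
  have hfix : phi D k r e (emb hp.inList f x) = emb hp.inList f x := phi_emb hp f hq x
  have hfin : Finite ↥(fixC (phi D k r e) (emb hp.inList f x)) := by
    have := Sig.finite_fixed hk he (isFrob_phi (D := D) (k := k) (p := r) (e := e))
    exact Finite.of_injective (fun y : ↥(fixC (phi D k r e) (emb hp.inList f x)) =>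
      (⟨y.1, (mem_fixC.1 y.2).1⟩ : ↥(fixedSubgroup (phi D k r e))))
      (fun a b hab => Subtype.ext (congrArg (fun w : ↥(fixedSubgroup (phi D k r e)) => (w : ↥(D.group k))) hab))
  obtain ⟨f', h1, h2, w, h3, h4⟩ := bound hp cs hk he (isFrob_phi (D := D) (k := k) (p := r) (e := e))
    (fr_phi hp cs) hB hd' hs hsr hRf hfix hxe
    (fun h0 => hx1 (emb_injective hp.inList f (by rw [h0, map_one]))) hz rfl
  rw [hF]
  refine ⟨f', h1, h2, w, h3, fun Cw hCw => le_trans ?_ (h4 Cw hCw)⟩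
  let Φ : ↥(Subgroup.centralizer {x}) → ↥(fixC (phi D k r e) (emb hp.inList f x)) := fun y =>
    ⟨emb hp.inList f y.1, mem_fixC.2 ⟨phi_emb hp f hq _, by
      rw [← map_mul, ← map_mul, Subgroup.mem_centralizer_singleton_iff.1 y.2]⟩⟩
  refine Nat.card_le_card_of_injective Φ fun a b hab => ?_
  apply Subtype.ext
  apply emb_injective hp.inList f
  exact congrArg (fun w : ↥(fixC (phi D k r e) (emb hp.inList f x)) => (w : ↥(D.group k))) hab

/-- the functionals of the alcove points -/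
def Rk (D : ChevalleyDatum) (l s : ℕ) : Set ((Fin l → ℤ) →+ ZMod s) :=
  {f | ∃ (c : Fin l → ℕ) (c0 : ℕ), H931.KC.Kac D l s c c0 ∧ ∀ x, f x = ((∑ i, x i * (c i : ℤ) : ℤ) : ZMod s)}

/-- **Every functional is conjugate to an alcove point.** -/
theorem meets_rk {s : ℕ} (hs : 0 < s) : Meets hp M.toCoxeterSystem (Rk D l s) := by
  intro f
  have : NeZero s := ⟨hs.ne'⟩
  let b : (Fin l → ℤ) →+ ℤ := H931.KC.psi fun i => ((f (sr i)).val : ℤ)
  have hb : ∀ x, ((b x : ℤ) : ZMod s) = f x := by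
    intro x
    have h1 : b x = ∑ i, x i * ((f (sr i)).val : ℤ) := rfl
    rw [h1, Int.cast_sum]
    conv_rhs => rw [IsMC.eq_sum_sr x, map_sum]
    refine Finset.sum_congr rfl fun i _ => ?_
    rw [map_zsmul, Int.cast_mul, Int.cast_natCast, ZMod.natCast_zmod_val, zsmul_eq_mul]
  obtain ⟨w, c, c0, hK, h⟩ := H931.KC.exists_alcove hp hs b
  refine ⟨w, c, c0, hK, fun x => ?_⟩
  show f (rep M.toCoxeterSystem hp.isCartan w x) = _
  rw [← hb, eq_comm, ← sub_eq_zero, ← Int.cast_sub]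
  exact (ZMod.intCast_zmod_eq_zero_iff_dvd _ _).2 (h x)

/-- the factor of the torus -/
theorem det_le [Finite W] (w : W) (q : ℕ) :
    (LinearMap.det (gq (theta hp cs w (AddEquiv.refl _)) q)).natAbs ≤ (q + 1) ^ l := by
  let g : (Fin l → ℤ) ≃+ (Fin l → ℤ) := repAut cs hp.isCartan w
  have hg : ∀ a, IsRoot cs hp.isCartan (g a) ↔ IsRoot cs hp.isCartan a := by
    intro a
    constructor
    · intro h1
      have h2 := h1.act w⁻¹
      have h3 : rep cs hp.isCartan w⁻¹ (g a) = a := rep_inv_apply cs hp.isCartan w a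
      rwa [h3] at h2
    · intro h1
      exact h1.act w
  obtain ⟨m, hm, hgm⟩ := H166.EP.exists_pow cs hp.isCartan hg
  exact H166.EP.det_end_le _ hm hgm _

/-- **The crude bound.** -/
theorem val_le [Fintype W] {s q : ℕ} (hq : 1 ≤ q) (f : (Fin l → ℤ) →+ ZMod s) (w : W) (Cw : Finset W)
    {m : ℕ} (hm : (psi cs hp.isCartan f).ncard ≤ m) :
    val hp cs (AddEquiv.refl _) q f w Cw ≤ (q + 1) ^ l * (q ^ m * (Fintype.card W * q ^ m)) := by
  unfold val
  have hfin : (psi cs hp.isCartan f).Finite :=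
    (RGD.finite_roots (cs := cs) (h := hp.isCartan)).subset fun a ha => ha.1
  refine Nat.mul_le_mul (det_le hp cs w q) (Nat.mul_le_mul (Nat.pow_le_pow_right hq hm) ?_)
  calc ∑ v ∈ Cw, q ^ (psiN cs hp.isCartan f v).ncard ≤ ∑ v ∈ Cw, q ^ m := by
        refine Finset.sum_le_sum fun v _ => Nat.pow_le_pow_right hq (le_trans ?_ hm)
        exact Set.ncard_le_ncard (fun a ha => ⟨ha.1, ha.2.1, ha.2.2.1⟩) hfin
    _ = Cw.card * q ^ m := by rw [Finset.sum_const, smul_eq_mul]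
    _ ≤ _ := Nat.mul_le_mul_right _ (Finset.card_le_univ Cw)

end Cfsg.Agent.H82.TS.Untw
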