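import Cfsg.Agent.H82.TS.ChainL
import Cfsg.Agent.H82.TS.Untw
import Cfsg.Agent.H943.E8Tab
import Cfsg.Agent.H742.EX.EPi
import Cfsg.Agent.S1065
import Cfsg.Agent.S1093

/-!
# The elements of order 3 of `E₈(2)` (helper82, S5745)

* `tabl`, `cpr_eq` : the root table of `E₈` and the pairing; `poin7` : the Poincaré sum of the stabiliser of the highest root;
* `card_cent_le` : `|C(x)| ≤ 3 · 2^63 · P_{E₇}(2)`, `x` of order 3 in `E₈(2)`;
* `cG_ge` : the class of `x` has at least `2^113` elements.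
-/

set_option autoImplicit false
set_option linter.unusedSectionVars false
set_option maxRecDepth 100000

namespace Cfsg.Agent.H82.TS.E8Three

open CoxeterSystem Cfsg Cfsg.Lie Cfsg.Lie.ChevalleyDatum
open Cfsg.Agent.ChevalleyStructure Cfsg.Agent.ChevalleyStructure.Elts Cfsg.Agent.ChevalleyStructure.CoxeterGeom
  Cfsg.Agent.ChevalleyStructure.CoxeterGeomTypes Cfsg.Agent.ChevalleyStructure.NPerm
  Cfsg.Agent.ChevalleyStructure.RootVec Cfsg.Agent.ChevalleyStructure.RootVecTab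
open Cfsg.Agent.Tits.Roots Cfsg.Agent.Tits.Core Cfsg.Agent.Nodes Cfsg.Agent.Nodes.Reps Cfsg.Agent.Nodes.BNOf
  Cfsg.Agent.Nodes.RGDChev Cfsg.Agent.Nodes.Coroot
open Cfsg.Agent.H129.TorusChar Cfsg.Agent.H129.TorusMain Cfsg.Agent.H129.WData Cfsg.Agent.H92.NE
open Cfsg.Agent.H972.CS.Torus (gq)
open Cfsg.Agent.H165.WL Cfsg.Agent.H943.E8Tab Cfsg.Agent.H944.Tab Cfsg.Agent.H82.TS.Chain Cfsg.Agent.H82.TS.ChainL

/-! ### tables -/

/-- the positive roots -/
def P8 : List (List ℤ) := R8.map (List.map fun a : ℕ => (a : ℤ))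

/-- the roots -/
def T8 : List (List ℤ) := (R8.reverse.map (List.map fun a : ℕ => -(a : ℤ))) ++ P8

def dotZ : List ℤ → List ℤ → ℤ
  | a :: as, b :: bs => a * b + dotZ as bs
  | _, _ => 0

/-- the Cartan matrix times a vector -/
def AL (v : List ℤ) : List ℤ :=
  [2 * v.getD 0 0 - v.getD 2 0, 2 * v.getD 1 0 - v.getD 3 0, 2 * v.getD 2 0 - v.getD 0 0 - v.getD 3 0,
    2 * v.getD 3 0 - v.getD 1 0 - v.getD 2 0 - v.getD 4 0, 2 * v.getD 4 0 - v.getD 3 0 - v.getD 5 0,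
    2 * v.getD 5 0 - v.getD 4 0 - v.getD 6 0, 2 * v.getD 6 0 - v.getD 5 0 - v.getD 7 0, 2 * v.getD 7 0 - v.getD 6 0]

/-- the pairing of the roots -/
def b8 (u v : List ℤ) : ℤ := dotZ u (AL v)

/-- the highest root -/
def th : List ℤ := [2, 3, 4, 6, 5, 4, 3, 2]

/-- a chain of roots with the stabilisers `E₆, D₅, A₄ + …, 1` in `E₇` -/
def ch : List (List ℤ) := [[0, 0, 0, 0, 0, 0, 0, -1], [0, -1, -1, -2, -2, -2, -2, -1], [-2, -2, -3, -4, -3, -2, -2, -1],
  [-2, -2, -3, -4, -3, -3, -2, -1], [-1, -2, -2, -4, -4, -3, -2, -1], [-2, -2, -4, -5, -4, -3, -2, -1],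
  [-2, -3, -4, -5, -4, -3, -2, -1]]

/-- the positive roots of `E₇` -/
def P7 : List (List ℤ) := P8.filter fun β => b8 β th == 0

theorem len7 : P7.length = 63 := by decide +kernel

theorem ok7 : okL b8 T8 P7 ch = true := by decide +kernel

theorem val7 : valL b8 2 T8 P7 [th] ch = 867088089921935556675 := by decide +kernel

theorem th_mem : th ∈ P8 := by decide +kernel

theorem dom8 : ∀ u ∈ P8, 0 ≤ b8 u th := by decide +kernel

theorem last8 : ∀ u ∈ P8, u.getD 7 0 % 3 = 0 → b8 u th = 0 := by decide +kernel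

theorem uniq_pos : ∀ u ∈ T8, (∀ i < 8, ((AL u).getD i 0 - (AL th).getD i 0) % 3 = 0) → u = th := by decide +kernel

theorem uniq_neg : ∀ u ∈ T8, (∀ i < 8, ((AL u).getD i 0 + (AL th).getD i 0) % 3 = 0) →
    u = [-2, -3, -4, -6, -5, -4, -3, -2] := by decide +kernel

/-- the sum of the coordinates -/
def htL (u : List ℤ) : ℤ := u.getD 0 0 + u.getD 1 0 + u.getD 2 0 + u.getD 3 0 + u.getD 4 0 + u.getD 5 0 + u.getD 6 0 +
  u.getD 7 0

theorem pos_tab : ∀ u ∈ T8, u ∈ P8 ↔ 0 < htL u := by decide +kernel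

theorem nz_tab : ∀ u ∈ T8, htL u ≠ 0 := by decide +kernel

theorem P_sub : ∀ u ∈ P8, u ∈ T8 := fun _ hu => List.mem_append_right _ hu

theorem n0 : (R8.filter fun r => (r.getD 0 0) % 3 == 0).length ≤ 42 := by decide +kernel
theorem n1 : (R8.filter fun r => (r.getD 1 0) % 3 == 0).length ≤ 42 := by decide +kernel
theorem n6 : (R8.filter fun r => (r.getD 6 0) % 3 == 0).length ≤ 42 := by decide +kernel

/-! ### the root system -/

theorem tabl : Tabl chevE8 8 T8 where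
  len := by decide +kernel
  row := by
    have h0 := tab8
    rw [chkTab, decide_eq_true_iff] at h0
    have h1 : T8 = (List.range chevE8.nroots).map (fun s => (List.range 8).map fun i => rt chevE8 s i) := h0.symm
    intro r hr
    have h2 : T8.getD r [] = (List.range 8).map fun i => rt chevE8 r i := by
      rw [h1, List.getD_eq_getElem _ _ (by simpa using hr)]
      simp
    rw [h2]
    refine ⟨by simp, fun i => ?_⟩
    rw [List.getD_eq_getElem _ _ (by simp), vec_apply]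
    simp

/-- the form -/
def Bm8 : Mat 8 := ![![2, 0, -1, 0, 0, 0, 0, 0], ![0, 2, 0, -1, 0, 0, 0, 0], ![-1, 0, 2, -1, 0, 0, 0, 0],
    ![0, -1, -1, 2, -1, 0, 0, 0], ![0, 0, 0, -1, 2, -1, 0, 0], ![0, 0, 0, 0, -1, 2, -1, 0],
    ![0, 0, 0, 0, 0, -1, 2, -1], ![0, 0, 0, 0, 0, 0, -1, 2]]

theorem hrok : H931.KC.HROK chevE8 8 Bm8 ![0, 0, 0, 0, 0, 0, 0, 1] ![92, 136, 182, 270, 220, 168, 114, 58] 60 :=
  H931.KC.ok_E8

theorem form8 : FormOK chevE8 8 Bm8 := hrok.1

/-- the pairing -/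
def B (x y : Fin 8 → ℤ) : ℤ := bl Bm8 y x

theorem B_vf (u v : List ℤ) : B (vf 8 u) (vf 8 v) = b8 u v := by
  have h1 : ∀ (u : List ℤ) (a b c d e f g h : ℤ), dotZ u [a, b, c, d, e, f, g, h] =
      u.getD 0 0 * a + u.getD 1 0 * b + u.getD 2 0 * c + u.getD 3 0 * d + u.getD 4 0 * e + u.getD 5 0 * f +
        u.getD 6 0 * g + u.getD 7 0 * h := by
    intro u a b c d e f g h
    rcases u with _ | ⟨u0, _ | ⟨u1, _ | ⟨u2, _ | ⟨u3, _ | ⟨u4, _ | ⟨u5, _ | ⟨u6, _ | ⟨u7, _ | ⟨u8, u⟩⟩⟩⟩⟩⟩⟩⟩⟩ <;>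
      simp [dotZ] <;> ring
  rw [b8, AL, h1]
  unfold B
  rw [bl_apply]
  simp only [Fin.sum_univ_eight, vf, Bm8]
  simp only [Fin.isValue, Fin.val_zero, Fin.val_one, Fin.val_two, Matrix.cons_val]
  norm_num
  ring

section

abbrev M8 := CoxeterMatrix.E₈
abbrev cs8 := CoxeterMatrix.E₈.toCoxeterSystem
abbrev C8 := e8T.isCartan

theorem finW : Finite CoxeterMatrix.E₈.Group := by
  have hW : Nat.card CoxeterMatrix.E₈.Group = 696729600 :=
    Cfsg.Agent.S1093.result (⟨8, CoxeterMatrix.E₈⟩, 696729600) (by simp)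
  exact Nat.finite_of_card_ne_zero (by rw [hW]; norm_num)

theorem bm_diag (i : Fin 8) : Bm8 i i = 2 := by fin_cases i <;> rfl

theorem cpr_eq (x y : Fin 8 → ℤ) (hy : IsRoot cs8 C8 y) : cpr cs8 C8 x y = B x y := by
  have := finW
  obtain ⟨w, i, rfl⟩ := id hy
  have h1 := cpr_rep cs8 C8 w (rep cs8 C8 w⁻¹ x) (isRoot_sr cs8 C8 i)
  rw [rep_apply_inv, cpr_sr] at h1
  have h2 : bl Bm8 (rep cs8 C8 w (sr i)) x = bl Bm8 (sr i) (rep cs8 C8 w⁻¹ x) := by
    rw [← bl_rep e8T form8 w (rep cs8 C8 w⁻¹ x) (sr i), rep_apply_inv]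
  have h3 : ∀ z : Fin 8 → ℤ, 2 * bl Bm8 z (sr i) = Bm8 i i * pairing (cartanOf chevE8 8) i z := by
    intro z
    rw [bl_sr]
    unfold pairing
    rw [Finset.mul_sum, Finset.mul_sum]
    refine Finset.sum_congr rfl fun j _ => ?_
    rw [← mul_assoc, form8.2 i j, mul_assoc]
  have h4 := h3 (rep cs8 C8 w⁻¹ x)
  rw [bm_diag, bl_comm form8.1] at h4
  rw [h1, B, h2]
  omega

/-- the height -/
def mu : (Fin 8 → ℤ) →+ ℤ := H931.KC.psi fun _ => 1

theorem mu_apply (x : Fin 8 → ℤ) : mu x = ∑ i, x i := by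
  show ∑ i, x i * 1 = _
  simp

theorem mu_vf (u : List ℤ) : mu (vf 8 u) = htL u := by
  rw [mu_apply, Fin.sum_univ_eight]
  rfl

theorem mem_T {x : Fin 8 → ℤ} : x ∈ fs 8 T8 ↔ IsRoot cs8 C8 x := by
  rw [mem_fs, tabl.isRoot_iff e8T cs8]

theorem mem_P {x : Fin 8 → ℤ} : x ∈ fs 8 P8 ↔ IsRoot cs8 C8 x ∧ 0 < mu x := by
  rw [← mem_T, mem_fs, mem_fs]
  constructor
  · rintro ⟨u, hu, rfl⟩
    exact ⟨⟨u, P_sub u hu, rfl⟩, by rw [mu_vf]; exact (pos_tab u (P_sub u hu)).1 hu⟩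
  · rintro ⟨⟨u, hu, rfl⟩, h⟩
    rw [mu_vf] at h
    exact ⟨u, (pos_tab u hu).2 h, rfl⟩

theorem mu_ne {x : Fin 8 → ℤ} (hx : IsRoot cs8 C8 x) : mu x ≠ 0 := by
  rw [← mem_T, mem_fs] at hx
  obtain ⟨u, hu, rfl⟩ := hx
  rw [mu_vf]
  exact nz_tab u hu

theorem mu_nonneg {x : Fin 8 → ℤ} (hx : 0 ≤ x) : 0 ≤ mu x := by
  rw [mu_apply]
  exact Finset.sum_nonneg fun i _ => hx i

theorem mu_pos {x : Fin 8 → ℤ} (hx : IsRoot cs8 C8 x) (h0 : 0 ≤ x) : 0 < mu x :=
  lt_of_le_of_ne (mu_nonneg h0) (mu_ne hx).symm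

theorem mem_P' {x : Fin 8 → ℤ} : x ∈ fs 8 P8 ↔ IsRoot cs8 C8 x ∧ 0 ≤ x := by
  rw [mem_P]
  refine and_congr_right fun hx => ⟨fun h => ?_, fun h => mu_pos hx h⟩
  rcases hx.pos_or_neg with h1 | h1
  · exact h1
  · have h2 := mu_nonneg (neg_nonneg.2 h1)
    rw [map_neg] at h2
    omega

theorem init8 : Init cs8 C8 ⊤ mu B (fun _ => 0) (fs 8 P8) := by
  have := finW
  exact init_top (fun x hx => mu_ne hx) fun β => mem_P

/-- the highest root -/
abbrev θ : Fin 8 → ℤ := vf 8 th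

theorem isRoot_θ : IsRoot cs8 C8 θ := mem_T.1 (mem_fs.2 ⟨th, P_sub th th_mem, rfl⟩)

theorem psi7 : Psi B (fs 8 P8) [θ] = fs 8 P7 := by
  have h0 : Psi B (fs 8 P8) (([] : List (List ℤ)).map (vf 8)) = fs 8 P8 := by simp [Psi]
  exact psi_step (b := b8) B_vf h0 th

theorem uniq7 : Uniq cs8 C8 ⊤ mu B (fs 8 P8) [θ] := by
  have := finW
  have h := uniq_append init8 cpr_eq (F := []) (by simp) isRoot_θ (fun β hβ => by
    have h1 : β ∈ fs 8 P8 := (Finset.mem_filter.1 hβ).1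
    obtain ⟨u, hu, rfl⟩ := mem_fs.1 h1
    rw [B_vf]
    exact dom8 u hu) init8.uniq
  simpa using h

/-- **The Poincaré sum of the stabiliser of the highest root.** -/
theorem poin7 (S : Finset CoxeterMatrix.E₈.Group) (hS : ∀ w ∈ S, rep cs8 C8 w θ = θ) :
    ∑ w ∈ S, 2 ^ ((Psi B (fs 8 P8) [θ]).filter (fun β => mu (rep cs8 C8 w β) < 0)).card ≤ 867088089921935556675 := by
  have := finW
  have h := poin_le_of (RR := fs 8 T8) init8 (fun β => mem_T) cpr_eq 2 (F0 := [θ]) (l := ch.map (vf 8)) ?_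
    (ok_of (b := b8) B_vf ch [th] P7 psi7 ok7) S (fun w hw => ⟨Subgroup.mem_top _, fun κ hκ => by
      rw [List.mem_singleton.1 hκ]; exact hS w hw⟩)
  · refine h.trans ?_
    have h2 := ChainL.val_le (b := b8) (RR := T8) B_vf (q := 2) (by norm_num) ch [th] P7 psi7
    exact h2.trans val7.le
  · intro l₁ μ l₂ e
    have h1 : l₁ = [] ∧ μ = θ := by
      rcases l₁ with _ | ⟨a, l₁⟩
      · simp only [List.nil_append, List.cons.injEq] at e
        exact ⟨rfl, e.1.symm⟩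
      · have := congrArg List.length e
        simp at this
    obtain ⟨rfl, rfl⟩ := h1
    refine ⟨mem_T.2 isRoot_θ, fun β hβ => ?_⟩
    have h1 : β ∈ fs 8 P8 := (Finset.mem_filter.1 hβ).1
    obtain ⟨u, hu, rfl⟩ := mem_fs.1 h1
    rw [B_vf]
    exact dom8 u hu


/-! ### the functional of the highest root -/

theorem B_θ (x : Fin 8 → ℤ) : B x θ = x 7 := by
  unfold B
  rw [bl_apply]
  simp only [Fin.sum_univ_eight, vf, Bm8, th, Fin.isValue, Fin.val_zero, Fin.val_one, Fin.val_two, Matrix.cons_val]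
  norm_num
  ring

theorem B_sr (i : Fin 8) (u : List ℤ) : B (sr i) (vf 8 u) = (AL u).getD i 0 := by
  unfold B
  rw [bl_sr]
  simp only [Fin.sum_univ_eight, vf, Bm8, AL]
  fin_cases i <;> simp <;> ring

theorem B_rep (w : CoxeterMatrix.E₈.Group) (x y : Fin 8 → ℤ) : B (rep cs8 C8 w x) (rep cs8 C8 w y) = B x y :=
  bl_rep e8T form8 w x y

theorem B_inv (w : CoxeterMatrix.E₈.Group) (x y : Fin 8 → ℤ) : B x (rep cs8 C8 w⁻¹ y) = B (rep cs8 C8 w x) y := by
  rw [← B_rep w x, rep_apply_inv]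

theorem eq_θ {ν : Fin 8 → ℤ} (hν : IsRoot cs8 C8 ν)
    (h : ∀ i, ((B (sr i) ν : ℤ) : ZMod 3) = ((B (sr i) θ : ℤ) : ZMod 3)) : ν = θ := by
  obtain ⟨u, hu, rfl⟩ := mem_fs.1 (mem_T.2 hν)
  rw [uniq_pos u hu fun i hi => ?_]
  have h1 := h ⟨i, hi⟩
  rw [B_sr, B_sr, ← sub_eq_zero, ← Int.cast_sub, ZMod.intCast_zmod_eq_zero_iff_dvd] at h1
  exact Int.emod_eq_zero_of_dvd h1

theorem eq_neg_θ {ν : Fin 8 → ℤ} (hν : IsRoot cs8 C8 ν)
    (h : ∀ i, ((B (sr i) ν : ℤ) : ZMod 3) = -((B (sr i) θ : ℤ) : ZMod 3)) : ν = -θ := by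
  obtain ⟨u, hu, rfl⟩ := mem_fs.1 (mem_T.2 hν)
  rw [uniq_neg u hu fun i hi => ?_]
  · rw [θ, ← vf_negL]
    rfl
  · have h1 := h ⟨i, hi⟩
    rw [B_sr, B_sr, eq_neg_iff_add_eq_zero, ← Int.cast_add, ZMod.intCast_zmod_eq_zero_iff_dvd] at h1
    exact Int.emod_eq_zero_of_dvd h1

section E7

variable {f : (Fin 8 → ℤ) →+ ZMod 3} (hf : ∀ x, f x = ((x 7 : ℤ) : ZMod 3))

include hf

theorem stab_θ {v : CoxeterMatrix.E₈.Group} (hv : ∀ y, f (rep cs8 C8 v y) = f y) : rep cs8 C8 v θ = θ := by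
  have h1 : rep cs8 C8 v⁻¹ θ = θ := eq_θ (isRoot_θ.act _) fun i => by
    rw [B_inv, B_θ, B_θ, ← hf, ← hf, hv]
  conv_lhs => rw [← h1]
  exact rep_apply_inv ..

theorem neg_θ {v : CoxeterMatrix.E₈.Group} (hv : ∀ y, f (rep cs8 C8 v y) = - f y) : rep cs8 C8 v⁻¹ θ = -θ :=
  eq_neg_θ (isRoot_θ.act _) fun i => by
    rw [B_inv, B_θ, B_θ, ← hf, ← hf, hv]

theorem f_root {u : List ℤ} (hu : u ∈ P8) (h : f (vf 8 u) = 0) : B (vf 8 u) θ = 0 := by
  rw [hf, ZMod.intCast_zmod_eq_zero_iff_dvd] at h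
  rw [B_vf]
  exact last8 u hu (Int.emod_eq_zero_of_dvd h)

theorem psi_sub : H972.CS.Main.psi cs8 C8 f ⊆ ↑(Psi B (fs 8 P8) [θ]) := by
  rintro a ⟨h1, h2, h3⟩
  have h4 := mem_P'.2 ⟨h1, h2⟩
  refine Finset.mem_coe.2 (Finset.mem_filter.2 ⟨h4, fun κ hκ => ?_⟩)
  rw [List.mem_singleton.1 hκ]
  obtain ⟨u, hu, rfl⟩ := mem_fs.1 h4
  exact f_root hf hu h3

theorem ncard_psi7 : (H972.CS.Main.psi cs8 C8 f).ncard ≤ 63 := by
  refine (Set.ncard_le_ncard (psi_sub hf) (Finset.finite_toSet _)).trans ?_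
  rw [Set.ncard_coe_finset, psi7, ← len7]
  exact card_fs_le _

theorem ncard_psiN7 (v : CoxeterMatrix.E₈.Group) : (H972.CS.Main.psiN cs8 C8 f v).ncard ≤
    ((Psi B (fs 8 P8) [θ]).filter (fun β => mu (rep cs8 C8 v β) < 0)).card := by
  rw [← Set.ncard_coe_finset]
  refine Set.ncard_le_ncard ?_ (Finset.finite_toSet _)
  rintro a ⟨h1, h2, h3, h4⟩
  refine Finset.mem_coe.2 (Finset.mem_filter.2 ⟨psi_sub hf ⟨h1, h2, h3⟩, ?_⟩)
  have h5 := mu_nonneg (neg_nonneg.2 h4)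
  rw [map_neg] at h5
  have h6 := mu_ne (h1.act v)
  omega

end E7

theorem hr_eq : H931.KC.hr chevE8 8 = θ := by
  have h1 : T8.getD 239 [] = th := by decide +kernel
  have h2 : chevE8.nroots = 240 := by decide +kernel
  unfold H931.KC.hr
  rw [h2, θ, ← h1]
  exact (tabl.vec_eq (by rw [h2]; norm_num)).symm

/-- the reflection of the highest root -/
theorem exists_refl : ∃ u : CoxeterMatrix.E₈.Group, ∀ x, rep cs8 C8 u x = x - x 7 • θ := by
  obtain ⟨u, hu⟩ := H931.KC.exists_refl e8T hrok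
  refine ⟨u, fun x => ?_⟩
  rw [hu, hr_eq]
  congr 2
  rw [H931.KC.psi_apply]
  simp [Fin.sum_univ_eight]

/-- the matrix of `- 1 - θ e₈` -/
def N8 : Matrix (Fin 8) (Fin 8) ℤ := fun i j => (if i = j then -1 else 0) - (if j = 7 then th.getD i 0 else 0)

theorem det_N8 : N8.det = 3 := by
  have h1 : N8.BlockTriangular id := by
    intro i j hij
    have hij' : j < i := hij
    have h7 : j ≠ 7 := by
      intro h
      have := i.2
      rw [h, Fin.lt_def] at hij'
      have h8 : ((7 : Fin 8) : ℕ) = 7 := rfl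
      omega
    show (if i = j then (-1 : ℤ) else 0) - (if j = 7 then th.getD i 0 else 0) = 0
    rw [if_neg hij'.ne', if_neg h7, sub_zero]
  rw [Matrix.det_of_isUpperTriangular h1, Fin.prod_univ_eight]
  decide +kernel

theorem det_eq {w : CoxeterMatrix.E₈.Group} (hw : ∀ x, rep cs8 C8 w x = x - x 7 • θ) :
    (LinearMap.det (gq (theta e8T cs8 w (AddEquiv.refl _)) 2)).natAbs = 3 := by
  have h1 : gq (theta e8T cs8 w (AddEquiv.refl _)) 2 = Matrix.toLin' N8 := by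
    refine LinearMap.ext fun x => ?_
    funext i
    rw [Matrix.toLin'_apply]
    show (rep cs8 C8 w x - ((2 : ℕ) : ℤ) • x) i = ∑ j, N8 i j * x j
    rw [hw]
    simp only [N8, sub_mul, Finset.sum_sub_distrib, ite_mul, zero_mul, Finset.sum_ite_eq, Finset.sum_ite_eq',
      Finset.mem_univ, if_true, Pi.sub_apply, Pi.smul_apply, smul_eq_mul]
    show x i - x 7 * th.getD i 0 - _ = _
    push_cast
    ring
  rw [h1, LinearMap.det_toLin', det_N8]
  rfl

/-- **The element `w` of the pair.** -/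
theorem w_eq {f : (Fin 8 → ℤ) →+ ZMod 3} (hf : ∀ x, f x = ((x 7 : ℤ) : ZMod 3)) {w : CoxeterMatrix.E₈.Group}
    (hw : H972.CS.Main.Pair e8T cs8 (AddEquiv.refl _) 2 3 f w) : ∀ x, rep cs8 C8 w x = x - x 7 • θ := by
  have hmul : ∀ y, f (rep cs8 C8 w y) = - f y := by
    intro y
    have h1 : f (rep cs8 C8 w y) = 2 • f y := hw.mul y
    rw [h1]
    generalize f y = a
    revert a
    decide
  have h1 := neg_θ hf hmul
  have h2 : rep cs8 C8 w θ = -θ := by
    have h3 : θ = -rep cs8 C8 w⁻¹ θ := by rw [h1]; exact (_root_.neg_neg _).symm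
    conv_lhs => rw [h3]
    rw [map_neg, rep_apply_inv]
  obtain ⟨u, hu⟩ := exists_refl
  have h7 : θ 7 = 2 := by decide
  have h3 : u * w = 1 := by
    refine uniq7 (u * w) ⟨Subgroup.mem_top _, fun κ hκ => ?_⟩ fun β hβ => ?_
    · rw [List.mem_singleton.1 hκ, rep_mul_apply, h2, hu, Pi.neg_apply, h7]
      funext i
      simp only [Pi.sub_apply, Pi.neg_apply, Pi.smul_apply, smul_eq_mul]
      ring
    · obtain ⟨h4, h5⟩ := Finset.mem_filter.1 hβ
      have h6 : B β θ = 0 := h5 θ (by simp)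
      have h8 : (rep cs8 C8 w β) 7 = 0 := by
        rw [← B_θ (rep cs8 C8 w β), ← B_inv, h1]
        have h9 : B β (-θ) = - B β θ := by
          unfold B
          rw [bl_comm form8.1, map_neg, bl_comm form8.1]
        rw [h9, h6, neg_zero]
      obtain ⟨hr, h0⟩ := mem_P'.1 h4
      have h9 : f β = 0 := by rw [hf, ← B_θ β, h6, Int.cast_zero]
      have h10 : 0 ≤ rep cs8 C8 w β := hw.pos β hr h0 h9
      rw [rep_mul_apply, hu, h8, zero_smul, sub_zero]
      exact mu_pos (hr.act w) h10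
  have h4 : w = u⁻¹ := (inv_eq_of_mul_eq_one_right h3).symm
  intro x
  have h5 : rep cs8 C8 u (rep cs8 C8 u x) = x := by
    rw [hu, hu]
    funext i
    simp only [Pi.sub_apply, Pi.smul_apply, smul_eq_mul, h7]
    ring
  rw [h4, ← hu]
  conv_lhs => rw [← h5]
  exact rep_inv_apply ..

/-- the positive roots killed by a coordinate -/
theorem psi_le (j : Fin 8) {f : (Fin 8 → ℤ) →+ ZMod 3} (hf : ∀ x, f x = ((x j : ℤ) : ZMod 3)) :
    (H972.CS.Main.psi cs8 C8 f).ncard ≤ (R8.filter fun r => (r.getD j 0) % 3 == 0).length := by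
  classical
  have h1 : H972.CS.Main.psi cs8 C8 f ⊆ ↑(((R8.filter fun r => (r.getD j 0) % 3 == 0).map
      fun r => vf 8 (r.map fun a : ℕ => (a : ℤ))).toFinset) := by
    rintro a ⟨h1, h2, h3⟩
    obtain ⟨u, hu, rfl⟩ := mem_fs.1 (mem_P'.2 ⟨h1, h2⟩)
    obtain ⟨r, hr, rfl⟩ := List.mem_map.1 hu
    rw [Finset.mem_coe, List.mem_toFinset, List.mem_map]
    refine ⟨r, List.mem_filter.2 ⟨hr, ?_⟩, rfl⟩
    rw [hf, ZMod.intCast_zmod_eq_zero_iff_dvd] at h3
    have h4 : vf 8 (r.map fun a : ℕ => (a : ℤ)) j = ((r.getD j 0 : ℕ) : ℤ) := by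
      unfold vf
      rw [show (0 : ℤ) = ((0 : ℕ) : ℤ) from rfl, List.getD_map]
    rw [h4] at h3
    rw [beq_iff_eq]
    exact Nat.mod_eq_zero_of_dvd (by exact_mod_cast h3)
  refine (Set.ncard_le_ncard h1 (Finset.finite_toSet _)).trans ?_
  rw [Set.ncard_coe_finset]
  refine (List.toFinset_card_le _).trans ?_
  rw [List.length_map]

/-- the coordinates -/
theorem cases3 {c : Fin 8 → ℕ} {c0 : ℕ} (hK : H931.KC.Kac chevE8 8 3 c c0) :
    (∀ i, c i = 0) ∨ ∃ j : Fin 8, (j = 0 ∨ j = 1 ∨ j = 6 ∨ j = 7) ∧ ∀ i, c i = if i = j then 1 else 0 := by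
  have h := hK.sum
  rw [hr_eq] at h
  simp only [Fin.sum_univ_eight, θ, vf, th, Fin.isValue, Fin.val_zero, Fin.val_one, Fin.val_two] at h
  norm_num at h
  have h2 : c 2 = 0 := by omega
  have h3 : c 3 = 0 := by omega
  have h4 : c 4 = 0 := by omega
  have h5 : c 5 = 0 := by omega
  by_cases h00 : c 0 = 0
  · by_cases h01 : c 1 = 0
    · by_cases h06 : c 6 = 0
      · by_cases h07 : c 7 = 0
        · left
          intro i
          fin_cases i <;> simp_all
        · right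
          refine ⟨7, by simp, fun i => ?_⟩
          have : c 7 = 1 := by omega
          fin_cases i <;> simp_all
      · right
        refine ⟨6, by simp, fun i => ?_⟩
        have h61 : c 6 = 1 := by omega
        have h71 : c 7 = 0 := by omega
        fin_cases i <;> simp_all
    · right
      refine ⟨1, by simp, fun i => ?_⟩
      have h61 : c 6 = 0 := by omega
      have h71 : c 7 = 0 := by omega
      have h11 : c 1 = 1 := by omega
      fin_cases i <;> simp_all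
  · right
    refine ⟨0, by simp, fun i => ?_⟩
    have h61 : c 6 = 0 := by omega
    have h71 : c 7 = 0 := by omega
    have h11 : c 1 = 0 := by omega
    have h01 : c 0 = 1 := by omega
    fin_cases i <;> simp_all

universe u

/-- **The centralisers of the elements of order 3 of `E₈(2)`.** -/
theorem card_cent_le {F : Type u} [Field F] [Finite F] (hF : Nat.card F = 2) (x : ↥(chevE8.group F))
    (hx : orderOf x = 3) : Nat.card ↥(Subgroup.centralizer {x}) ≤ 3 * (2 ^ 63 * 867088089921935556675) := by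
  classical
  have := finW
  have := Fintype.ofFinite CoxeterMatrix.E₈.Group
  have hW : Fintype.card CoxeterMatrix.E₈.Group = 696729600 := by
    rw [← Nat.card_eq_fintype_card]
    exact Cfsg.Agent.S1093.result (⟨8, CoxeterMatrix.E₈⟩, 696729600) (by simp)
  have h3F : ((3 : ℕ) : F) ≠ 0 := by
    intro h0
    have := Fintype.ofFinite F
    have h1 : (2 : F) = 0 := by
      have h2 := Nat.cast_card_eq_zero F
      rw [← Nat.card_eq_fintype_card, hF] at h2
      exact_mod_cast h2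
    have h2 : (1 : F) = 0 := by
      have h3 : ((3 : ℕ) : F) = 2 + 1 := by norm_num
      rw [h3, h1, zero_add] at h0
      exact h0
    exact one_ne_zero h2
  have hx3 : x ^ 3 = 1 := by rw [← hx]; exact pow_orderOf_eq_one x
  have hx1 : x ≠ 1 := by
    rintro rfl
    rw [orderOf_one] at hx
    norm_num at hx
  obtain ⟨f, hfR, hf0, w, hw, hb⟩ := Untw.bound_untw e8T cs8 Nat.prime_three h3F invC_E8 one_ne_zero
    (Untw.meets_rk e8T (by norm_num : 0 < 3)) x hx3 hx1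
  rw [hF] at hw hb
  obtain ⟨c, c0, hK, hf⟩ := hfR
  rcases cases3 hK with h | ⟨j, hj, h⟩
  · exfalso
    apply hf0
    refine AddMonoidHom.ext fun y => ?_
    rw [hf, AddMonoidHom.zero_apply]
    simp [h]
  have hf' : ∀ y, f y = ((y j : ℤ) : ZMod 3) := by
    intro y
    rw [hf]
    congr 1
    rw [Finset.sum_eq_single j]
    · rw [h, if_pos rfl, Nat.cast_one, mul_one]
    · intro i _ hi
      rw [h, if_neg hi, Nat.cast_zero, mul_zero]
    · intro h1
      exact absurd (Finset.mem_univ j) h1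
  have crude : (R8.filter fun r => (r.getD j 0) % 3 == 0).length ≤ 42 →
      Nat.card ↥(Subgroup.centralizer {x}) ≤ 3 * (2 ^ 63 * 867088089921935556675) := by
    intro h42
    refine (hb Finset.univ (fun v _ _ => Finset.mem_univ v)).trans ?_
    refine (Untw.val_le e8T cs8 (by norm_num) f w _ ((psi_le j hf').trans h42)).trans ?_
    rw [hW]
    norm_num
  rcases hj with rfl | rfl | rfl | rfl
  · exact crude n0
  · exact crude n1
  · exact crude n6
  · refine (hb (Finset.univ.filter fun v => rep cs8 C8 v θ = θ) (fun v h1 _ => Finset.mem_filter.2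
      ⟨Finset.mem_univ v, stab_θ hf' h1⟩)).trans ?_
    unfold H972.CS.Main.val
    rw [det_eq (w_eq hf' hw)]
    refine Nat.mul_le_mul_left _ (Nat.mul_le_mul (Nat.pow_le_pow_right (by norm_num) (ncard_psi7 hf')) ?_)
    refine (Finset.sum_le_sum fun v _ => Nat.pow_le_pow_right (by norm_num) (ncard_psiN7 hf' v)).trans ?_
    exact poin7 _ fun v hv => (Finset.mem_filter.1 hv).2

/-- **The classes of the elements of order 3 of `E₈(2)`.** -/
theorem cG_ge {F : Type u} [Field F] [Finite F] (hF : Nat.card F = 2) (x : ↥(chevE8.group F))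
    (hx : orderOf x = 3) : 2 ^ 113 ≤ H742.EX.cG x := by
  have := Fintype.ofFinite F
  have hc : Fintype.card F = 2 := by rw [← Nat.card_eq_fintype_card]; exact hF
  have h1 := S1065.result hc
  have : Finite ↥(chevE8.group F) := inferInstance
  have h2 := H742.EX.card_G x
  have h3 : Nat.card {g : ↥(chevE8.group F) // g⁻¹ * x * g = x} ≤ 3 * (2 ^ 63 * 867088089921935556675) := by
    refine le_trans (le_of_eq ?_) (card_cent_le hF x hx)
    refine Nat.card_congr (Equiv.subtypeEquivRight fun g => ?_)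
    rw [Subgroup.mem_centralizer_singleton_iff]
    constructor
    · intro h
      calc g * x = g * (g⁻¹ * x * g) := by rw [h]
        _ = x * g := by group
    · intro h
      calc g⁻¹ * x * g = g⁻¹ * (x * g) := mul_assoc _ _ _
        _ = g⁻¹ * (g * x) := by rw [h]
        _ = x := by group
  by_contra hlt
  push Not at hlt
  have h4 : Nat.card ↥(chevE8.group F) ≤ 2 ^ 113 * (3 * (2 ^ 63 * 867088089921935556675)) := by
    rw [h2]
    exact Nat.mul_le_mul hlt.le h3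
  rw [h1] at h4
  norm_num at h4

end

end Cfsg.Agent.H82.TS.E8Three
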