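import Cfsg.Agent.H82.TS.Poin
import Cfsg.Agent.Nodes.Coroot
import Cfsg.Agent.Nodes.Slope

/-!
# Poincaré sums of stabilisers in Weyl groups (T*, S5745; helper82)

`P` = the roots with `mu > 0` (`mu` without zeros), `F = [μ₁, …, μ_k]` a chain of roots, each dominant on the roots of `P`
orthogonal to the previous ones; `H_F` = the stabiliser of `F`, `Ψ_F` = the roots of `P` orthogonal to `F`.
`poin_le` : `∑_{w ∈ H_F} q ^ #{β ∈ Ψ_F | w β < 0} ≤ val F chain`, a product of sums over the roots.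
More generally `P` is the positive part of a subsystem with a group `H0` containing its reflections (`Init`).
-/

set_option autoImplicit false
set_option linter.unusedSectionVars false

namespace Cfsg.Agent.H82.TS.Chain

open CoxeterSystem Cfsg.Agent.ChevalleyStructure.CoxeterGeom Cfsg.Agent.Tits.Roots Cfsg.Agent.Tits.Core
  Cfsg.Agent.Tits.RootComb Cfsg.Agent.Tits.Exchange Cfsg.Agent.Nodes.SubComb Cfsg.Agent.Nodes.StabComb
  Cfsg.Agent.Nodes.Coroot Cfsg.Agent.H82.TS.Poin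

variable {I W : Type*} [Fintype I] [DecidableEq I] [Group W] {M : CoxeterMatrix I}
  {cs : CoxeterSystem M W} {A : I → I → ℤ} {h : IsCartan M A}

/-- `rep` as additive endomorphisms -/
noncomputable def rho (cs : CoxeterSystem M W) (h : IsCartan M A) : W →* AddMonoid.End (I → ℤ) where
  toFun := fun w => (rep cs h w).toAddMonoidHom
  map_one' := by
    apply AddMonoidHom.ext
    intro x
    show rep cs h 1 x = x
    rw [map_one]; rfl
  map_mul' := fun v w => by
    apply AddMonoidHom.ext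
    intro x
    exact rep_mul_apply cs h v w x

theorem rho_apply (w : W) (x : I → ℤ) : rho cs h w x = rep cs h w x := rfl

/-- the stabiliser of `F` in `H0` -/
def Hs (cs : CoxeterSystem M W) (h : IsCartan M A) (H0 : Subgroup W) (F : List (I → ℤ)) : Subgroup W where
  carrier := {w | w ∈ H0 ∧ ∀ ν ∈ F, rep cs h w ν = ν}
  mul_mem' := fun {a b} ha hb => ⟨H0.mul_mem ha.1 hb.1, fun ν hν => by rw [rep_mul_apply, hb.2 ν hν, ha.2 ν hν]⟩
  one_mem' := ⟨H0.one_mem, fun ν _ => by simp⟩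
  inv_mem' := fun {a} ha => ⟨H0.inv_mem ha.1, fun ν hν => by
    conv_lhs => rw [← ha.2 ν hν]
    exact rep_inv_apply ..⟩

theorem mem_Hs {H0 : Subgroup W} {F : List (I → ℤ)} {w : W} :
    w ∈ Hs cs h H0 F ↔ w ∈ H0 ∧ ∀ ν ∈ F, rep cs h w ν = ν := Iff.rfl

/-- the roots of `P` orthogonal to `F` -/
def Psi (B : (I → ℤ) → (I → ℤ) → ℤ) (P : Finset (I → ℤ)) (F : List (I → ℤ)) : Finset (I → ℤ) :=
  P.filter (fun β => ∀ κ ∈ F, B β κ = 0)

/-- the product; `v` an `H0`-invariant -/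
def val (B : (I → ℤ) → (I → ℤ) → ℤ) (v : (I → ℤ) → ℤ) (P RR : Finset (I → ℤ)) (q : ℕ) :
    List (I → ℤ) → List (I → ℤ) → ℕ
  | _, [] => 1
  | F, μ :: l => (∑ ν ∈ RR.filter (fun ν => v ν = v μ ∧ ∀ κ ∈ F, B κ ν = B κ μ),
      q ^ ((Psi B P F).filter (fun β => B β ν < 0)).card) * val B v P RR q (F ++ [μ]) l

/-- each root of the chain is dominant for the previous stage -/
def ok (B : (I → ℤ) → (I → ℤ) → ℤ) (P RR : Finset (I → ℤ)) : List (I → ℤ) → List (I → ℤ) → Prop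
  | F, [] => Psi B P F = ∅
  | F, μ :: l => μ ∈ RR ∧ (∀ β ∈ Psi B P F, 0 ≤ B β μ) ∧ ok B P RR (F ++ [μ]) l

/-- only `1` preserves `Ψ_F` -/
def Uniq (cs : CoxeterSystem M W) (h : IsCartan M A) (H0 : Subgroup W) (mu : (I → ℤ) →+ ℤ)
    (B : (I → ℤ) → (I → ℤ) → ℤ) (P : Finset (I → ℤ)) (F : List (I → ℤ)) : Prop :=
  ∀ w ∈ Hs cs h H0 F, (∀ β ∈ Psi B P F, 0 < mu (rep cs h w β)) → w = 1

/-- the coroot functional determines the root -/
theorem eq_of_cpr [Finite W] {μ ν : I → ℤ} (hμ : IsRoot cs h μ) (hν : IsRoot cs h ν)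
    (he : ∀ x, cpr cs h x μ = cpr cs h x ν) : μ = ν := by
  have := Fintype.ofFinite W
  have ha := form_pos cs h hμ.ne_zero
  have hb := form_pos cs h hν.ne_zero
  have h1 : ∀ x, form cs h x (form cs h ν ν • μ - form cs h μ μ • ν) = 0 := by
    intro x
    have h2 := two_form_cpr cs h x hμ
    have h3 := two_form_cpr cs h x hν
    rw [← he x] at h3
    rw [form_sub_right, form_smul_right, form_smul_right]
    have h4 : 2 * (form cs h ν ν * form cs h x μ - form cs h μ μ * form cs h x ν) = 0 := by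
      linear_combination (form cs h ν ν) * h2 - (form cs h μ μ) * h3
    omega
  have h2 : form cs h ν ν • μ - form cs h μ μ • ν = 0 := by
    by_contra h3
    exact (form_pos cs h h3).ne' (h1 _)
  exact Nodes.Slope.eq_of_cross hμ hν hb ha (sub_eq_zero.1 h2)

/-- the initial data: a group `H0` preserving `P ∪ -P`, containing its reflections; `mu > 0` on `P` -/
structure Init (cs : CoxeterSystem M W) (h : IsCartan M A) (H0 : Subgroup W) (mu : (I → ℤ) →+ ℤ)
    (B : (I → ℤ) → (I → ℤ) → ℤ) (v : (I → ℤ) → ℤ) (P : Finset (I → ℤ)) : Prop where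
  root : ∀ β ∈ P, IsRoot cs h β
  pos : ∀ β ∈ P, 0 < mu β
  act : ∀ w ∈ H0, ∀ β ∈ P, rep cs h w β ∈ P ∨ -(rep cs h w β) ∈ P
  refl : ∀ w i, rep cs h w (sr i) ∈ P → rfl' cs w i ∈ H0
  inv : ∀ w ∈ H0, ∀ ν, IsRoot cs h ν → v (rep cs h w ν) = v ν
  uniq : Uniq cs h H0 mu B P []

section

variable [Finite W] {H0 : Subgroup W} {mu : (I → ℤ) →+ ℤ} {B : (I → ℤ) → (I → ℤ) → ℤ} {v : (I → ℤ) → ℤ}
  {P RR : Finset (I → ℤ)}

/-- the initial data of `W` itself -/
theorem init_top (hmu : ∀ x, IsRoot cs h x → mu x ≠ 0) (hP : ∀ β, β ∈ P ↔ IsRoot cs h β ∧ 0 < mu β) :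
    Init cs h ⊤ mu B (fun _ => 0) P where
  root := fun β hβ => ((hP β).1 hβ).1
  pos := fun β hβ => ((hP β).1 hβ).2
  act := fun w _ β hβ => by
    have h3 := ((hP β).1 hβ).1.act w
    rcases lt_or_gt_of_ne (hmu _ h3) with h5 | h5
    · exact Or.inr ((hP _).2 ⟨h3.neg, by rw [map_neg]; omega⟩)
    · exact Or.inl ((hP _).2 ⟨h3, h5⟩)
  refl := fun _ _ _ => Subgroup.mem_top _
  inv := fun _ _ _ _ => rfl
  uniq := by
    intro w _ hw
    obtain ⟨v, hv⟩ := Nodes.Slope.exists_w (cs := cs) (h := h) mu hmu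
    have hval : ∀ y : I → ℤ, mu (rep cs h v y) = ∑ k, y k * mu (rep cs h v (sr k)) := by
      intro y
      have e : y = ∑ k, y k • sr k := by
        funext j
        simp [Finset.sum_apply, sr, Pi.single_apply]
      conv_lhs => rw [e]
      rw [map_sum, map_sum]
      exact Finset.sum_congr rfl fun k _ => by rw [map_smul, map_zsmul, smul_eq_mul]
    have hnn : ∀ y : I → ℤ, 0 ≤ y → 0 ≤ mu (rep cs h v y) := fun y hy => by
      rw [hval]
      exact Finset.sum_nonneg fun k _ => mul_nonneg (hy k) (hv k).le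
    have h1 : v⁻¹ * w * v = 1 := by
      refine eq_one_of_nonneg cs h _ fun i => ?_
      have hr : IsRoot cs h (rep cs h (v⁻¹ * w * v) (sr i)) := (isRoot_sr cs h i).act _
      rcases hr.pos_or_neg with h2 | h2
      · exact h2
      · exfalso
        have h3 := hnn _ (neg_nonneg.2 h2)
        have h4 : rep cs h v (-rep cs h (v⁻¹ * w * v) (sr i)) = -rep cs h w (rep cs h v (sr i)) := by
          rw [map_neg, ← rep_mul_apply, ← rep_mul_apply]
          congr 3
          group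
        rw [h4, map_neg] at h3
        have h5 := hw (rep cs h v (sr i)) (Finset.mem_filter.2 ⟨(hP _).2 ⟨(isRoot_sr cs h i).act v, hv i⟩,
          fun κ hκ => absurd hκ (by simp)⟩)
        omega
    have h2 : w = v * (v⁻¹ * w * v) * v⁻¹ := by group
    rw [h2, h1]; group

variable (hI : Init cs h H0 mu B v P) (hRR : ∀ β, β ∈ RR ↔ IsRoot cs h β)
  (hB : ∀ x y, IsRoot cs h y → cpr cs h x y = B x y)

include hB in
theorem psi_append {F : List (I → ℤ)} {μ : I → ℤ} (hμ : IsRoot cs h μ) :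
    Psi B P (F ++ [μ]) = (Psi B P F).filter (fun β => ell cs h hμ β = 0) := by
  ext β
  simp only [Psi, Finset.mem_filter, List.mem_append, List.mem_singleton, ell_apply, hB _ _ hμ]
  constructor
  · rintro ⟨h1, h2⟩
    exact ⟨⟨h1, fun κ hκ => h2 κ (Or.inl hκ)⟩, h2 μ (Or.inr rfl)⟩
  · rintro ⟨⟨h1, h2⟩, h3⟩
    refine ⟨h1, ?_⟩
    rintro κ (hκ | rfl)
    · exact h2 κ hκ
    · exact h3

include hI hB

theorem root_act {F : List (I → ℤ)} (hF : ∀ κ ∈ F, IsRoot cs h κ) {w : W} (hw : w ∈ Hs cs h H0 F) {β : I → ℤ}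
    (hβ : β ∈ Psi B P F) : rep cs h w β ∈ Psi B P F ∨ -(rep cs h w β) ∈ Psi B P F := by
  obtain ⟨h1, h2⟩ := Finset.mem_filter.1 hβ
  have h4 : ∀ κ ∈ F, cpr cs h (rep cs h w β) κ = 0 := by
    intro κ hκ
    conv_lhs => rw [← hw.2 κ hκ]
    rw [cpr_rep cs h w β (hF κ hκ), hB _ _ (hF κ hκ), h2 κ hκ]
  rcases hI.act w hw.1 β h1 with h5 | h5
  · left
    refine Finset.mem_filter.2 ⟨h5, fun κ hκ => ?_⟩
    rw [← hB _ _ (hF κ hκ), h4 κ hκ]
  · right
    refine Finset.mem_filter.2 ⟨h5, fun κ hκ => ?_⟩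
    rw [← hB _ _ (hF κ hκ), cpr_neg cs h _ (hF κ hκ), h4 κ hκ, neg_zero]

theorem uniq_append {F : List (I → ℤ)} (hF : ∀ κ ∈ F, IsRoot cs h κ) {μ : I → ℤ} (hμ : IsRoot cs h μ)
    (hdom : ∀ β ∈ Psi B P F, 0 ≤ B β μ) (hU : Uniq cs h H0 mu B P F) : Uniq cs h H0 mu B P (F ++ [μ]) := by
  intro w hw hpos
  have hwF : w ∈ Hs cs h H0 F := ⟨hw.1, fun κ hκ => hw.2 κ (List.mem_append_left _ hκ)⟩
  have hwμ : rep cs h w μ = μ := hw.2 μ (List.mem_append_right _ (List.mem_singleton_self μ))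
  refine hU w hwF fun β hβ => ?_
  by_cases h0 : B β μ = 0
  · refine hpos β ?_
    rw [psi_append hB hμ]
    exact Finset.mem_filter.2 ⟨hβ, by rw [ell_apply, hB _ _ hμ, h0]⟩
  · have h1 : 0 < B β μ := lt_of_le_of_ne (hdom β hβ) (Ne.symm h0)
    have h2 : cpr cs h (rep cs h w β) μ = B β μ := by
      conv_lhs => rw [← hwμ]
      rw [cpr_rep cs h w β hμ, hB _ _ hμ]
    rcases root_act hI hB hF hwF hβ with h3 | h3
    · exact hI.pos _ (Finset.mem_filter.1 h3).1
    · exfalso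
      have h4 := hdom _ h3
      rw [← hB _ _ hμ, cpr_neg cs h _ hμ, h2] at h4
      omega

include hRR

theorem poin_aux (q : ℕ) : ∀ (l F : List (I → ℤ)), (∀ κ ∈ F, IsRoot cs h κ) → Uniq cs h H0 mu B P F → ok B P RR F l →
    ∀ S : Finset W, (∀ w ∈ S, w ∈ Hs cs h H0 F) →
      ∑ w ∈ S, q ^ ((Psi B P F).filter (fun β => mu (rep cs h w β) < 0)).card ≤ val B v P RR q F l := by
  classical
  have : Fintype W := Fintype.ofFinite W
  intro l
  induction l with
  | nil =>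
    intro F _ hU hok S hS
    have h0 : Psi B P F = ∅ := hok
    have h1 : ∀ w ∈ S, w = 1 := fun w hw => hU w (hS w hw) fun β hβ => by rw [h0] at hβ; simp at hβ
    have h2 : S ⊆ {1} := fun w hw => Finset.mem_singleton.2 (h1 w hw)
    refine (Finset.sum_le_sum_of_subset h2).trans ?_
    rw [Finset.sum_singleton, h0]
    simp [val]
  | cons μ l ih =>
    intro F hF hU hok S hS
    obtain ⟨hμR, hdom, hok'⟩ := hok
    have hμ := (hRR μ).1 hμR
    have hF' : ∀ κ ∈ F ++ [μ], IsRoot cs h κ := fun κ hκ => by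
      rcases List.mem_append.1 hκ with h3 | h3
      · exact hF κ h3
      · rw [List.mem_singleton.1 h3]; exact hμ
    have h1 := ih (F ++ [μ]) hF' (uniq_append hI hB hF hμ hdom hU) hok'
      (Finset.univ.filter (fun w => w ∈ Hs cs h H0 (F ++ [μ]))) (fun w hw => (Finset.mem_filter.1 hw).2)
    have hsys : Sys (rho cs h) (Hs cs h H0 F) (Psi B P F) mu (fun _ => q) :=
      ⟨fun β hβ => hI.pos β (Finset.mem_filter.1 hβ).1, fun w hw β hβ => root_act hI hB hF hw hβ,
        fun _ _ _ _ _ => rfl⟩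
    have h2 := step hsys (lam := ell cs h hμ) (fun β hβ => by rw [ell_apply, hB _ _ hμ]; exact hdom β hβ)
      (fun β hβ h0 => by
        obtain ⟨hβP, hβF⟩ := Finset.mem_filter.1 hβ
        have hβr := hI.root β hβP
        obtain ⟨v, i, rfl⟩ := id hβr
        rw [ell_apply] at h0
        refine ⟨rfl' cs v i, ⟨hI.refl v i hβP, fun κ hκ => ?_⟩, fun x => ?_, ell cs h hβr, ?_, fun x => ?_⟩
        · rw [rep_rfl'_eq, (cpr_zero_comm cs h hβr (hF κ hκ)).1 (by rw [hB _ _ (hF κ hκ)]; exact hβF κ hκ),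
            zero_smul, sub_zero]
        · rw [rho_apply, rep_rfl'_eq, map_sub, map_zsmul, ell_apply cs h hμ (rep cs h v (sr i)), h0, smul_zero, sub_zero]
        · rw [ell_apply, cpr_self cs h hβr]
        · rw [rho_apply, rep_rfl'_eq, ell_apply])
      (ι := I → ℤ) (RR.filter (fun ν => v ν = v μ ∧ ∀ κ ∈ F, B κ ν = B κ μ))
      (fun ν => if hν : IsRoot cs h ν then ell cs h hν else 0)
      (fun w hw => by
        have hν : IsRoot cs h (rep cs h w⁻¹ μ) := hμ.act _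
        refine ⟨rep cs h w⁻¹ μ, Finset.mem_filter.2 ⟨(hRR _).2 hν, hI.inv _ (H0.inv_mem hw.1) μ hμ, fun κ hκ => ?_⟩,
          fun x => ?_⟩
        · rw [← hB _ _ hν, ← hB _ _ hμ]
          have h3 := cpr_rep cs h w⁻¹ κ hμ
          rwa [((Hs cs h H0 F).inv_mem hw).2 κ hκ] at h3
        · rw [dif_pos hν, ell_apply, ell_apply, rho_apply]
          have h3 := cpr_rep cs h w⁻¹ (rep cs h w x) hμ
          rw [rep_inv_apply] at h3
          exact h3.symm)
      S (Finset.univ.filter (fun w => w ∈ Hs cs h H0 (F ++ [μ]))) hS (fun w hw hwl => ?_)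
    · simp only [wt_const] at h2
      refine h2.trans ?_
      rw [← psi_append hB hμ]
      refine Nat.mul_le_mul (le_of_eq ?_) h1
      refine Finset.sum_congr rfl fun ν hν => ?_
      have hνr := (hRR ν).1 (Finset.mem_filter.1 hν).1
      rw [Finset.prod_const, dif_pos hνr]
      congr 2
      ext β
      simp only [Finset.mem_filter, ell_apply, hB _ _ hνr]
    · refine Finset.mem_filter.2 ⟨Finset.mem_univ _, hw.1, fun κ hκ => ?_⟩
      rcases List.mem_append.1 hκ with h3 | h3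
      · exact hw.2 κ h3
      · rw [List.mem_singleton.1 h3]
        refine eq_of_cpr (hμ.act w) hμ fun x => ?_
        have h4 := hwl (rep cs h w⁻¹ x)
        rw [ell_apply, ell_apply, rho_apply, rep_apply_inv] at h4
        rw [h4]
        have h5 := cpr_rep cs h w (rep cs h w⁻¹ x) hμ
        rw [rep_apply_inv] at h5
        exact h5

/-- **Poincaré sums along a chain of roots**: `∑_{w ∈ S} q ^ #{β ∈ P | w β < 0} ≤ val [] l`, `S ⊆ H0`. -/
theorem poin_le (q : ℕ) {l : List (I → ℤ)} (hok : ok B P RR [] l) (S : Finset W) (hS : ∀ w ∈ S, w ∈ H0) :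
    ∑ w ∈ S, q ^ (P.filter (fun β => mu (rep cs h w β) < 0)).card ≤ val B v P RR q [] l := by
  have h1 := poin_aux hI hRR hB q l [] (by simp) hI.uniq hok S (fun w hw => ⟨hS w hw, by simp⟩)
  have h2 : Psi B P [] = P := by simp [Psi]
  rwa [h2] at h1

/-- the same after an initial part `F0` of the chain -/
theorem poin_le_of (q : ℕ) {F0 l : List (I → ℤ)} (hok0 : ∀ l₁ μ l₂, F0 = l₁ ++ μ :: l₂ → μ ∈ RR ∧
      ∀ β ∈ Psi B P l₁, 0 ≤ B β μ) (hok : ok B P RR F0 l) (S : Finset W)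
    (hS : ∀ w ∈ S, w ∈ H0 ∧ ∀ κ ∈ F0, rep cs h w κ = κ) :
    ∑ w ∈ S, q ^ ((Psi B P F0).filter (fun β => mu (rep cs h w β) < 0)).card ≤ val B v P RR q F0 l := by
  have key : ∀ l₁ : List (I → ℤ), (∃ l₂, F0 = l₁ ++ l₂) → (∀ κ ∈ l₁, IsRoot cs h κ) ∧ Uniq cs h H0 mu B P l₁ := by
    intro l₁
    induction l₁ using List.reverseRecOn with
    | nil => intro _; exact ⟨by simp, hI.uniq⟩
    | append_singleton l₁ μ ih =>
      rintro ⟨l₂, e⟩
      have e' : F0 = l₁ ++ μ :: l₂ := by rw [e]; simp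
      obtain ⟨h1, h2⟩ := ih ⟨μ :: l₂, e'⟩
      obtain ⟨h3, h4⟩ := hok0 l₁ μ l₂ e'
      have hμ := (hRR μ).1 h3
      refine ⟨fun κ hκ => ?_, uniq_append hI hB h1 hμ h4 h2⟩
      rcases List.mem_append.1 hκ with h5 | h5
      · exact h1 κ h5
      · rw [List.mem_singleton.1 h5]; exact hμ
  obtain ⟨h1, h2⟩ := key F0 ⟨[], by simp⟩
  exact poin_aux hI hRR hB q l F0 h1 h2 hok S hS

end

end Cfsg.Agent.H82.TS.Chain
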