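import Cfsg.Agent.H82.TS.Star

/-!
# Fixed points of elliptic elements on sections (T*, S5745; helper82)

* `card_fix_le` : `x` of order `r ^ k` normalising, not centralising the `p`-group `V`: `|C_V(x)| p ^ d ≤ |V|`, `d = ord_r(p)`;
* `card_Sup_le` : `|⟨X β : β ∈ S⟩| ≤ ∏ |X β|`;
* `simple_eq_of_cent` : `x ∈ L_J` elliptic centralising `V_ρ`: `J` fixes the ray `ρ`.
-/

set_option autoImplicit false
set_option linter.unusedSectionVars false

namespace Cfsg.Agent.H82.TS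

open CoxeterSystem Cfsg.Agent.ChevalleyStructure.CoxeterGeom Cfsg.Agent.Tits.Roots Cfsg.Agent.Tits.Core
  Cfsg.Agent.Tits.RootComb Cfsg.Agent.Tits.Exchange Cfsg.Agent.Nodes.Reps Cfsg.Agent.Nodes.BNOf
  Cfsg.Agent.Nodes.StabComb Cfsg.Agent.Nodes.Bruhat Cfsg.Agent.Nodes.OppDec Cfsg.Agent.Nodes.LeviDec
  Cfsg.Agent.KFacts.RgdPar

/-! ### coprime action on a `p`-group -/

theorem card_fix_modEq {Y : Type*} [Group Y] [Finite Y] {r k : ℕ} [hr : Fact r.Prime] {x : Y} (hx : x ^ r ^ k = 1)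
    (V : Subgroup Y) (hxV : x ∈ Subgroup.normalizer (V : Set Y)) :
    Nat.card V ≡ Nat.card (Cx x ⊓ V : Subgroup Y) [MOD r] := by
  classical
  let _ : Fintype V := Fintype.ofFinite V
  let f : Function.End V := fun c => ⟨x * c.1 * x⁻¹, (Subgroup.mem_normalizer_iff.1 hxV _).1 c.2⟩
  have hf : ∀ (m : ℕ) (c : V), ((f ^ m) c).1 = x ^ m * c.1 * (x ^ m)⁻¹ := by
    intro m
    induction m with
    | zero => intro c; rw [pow_zero, pow_zero]; change c.1 = _; group
    | succ m ih =>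
      intro c
      rw [pow_succ]
      change ((f ^ m) (f c)).1 = _
      rw [ih]
      change x ^ m * (x * c.1 * x⁻¹) * (x ^ m)⁻¹ = _
      rw [pow_succ]; group
  have hf1 : f ^ r ^ k = 1 := by
    funext c
    apply Subtype.ext
    rw [hf, hx]
    change _ = c.1
    group
  have h1 := Equiv.Perm.card_fixedPoints_modEq hf1
  have h2 : Fintype.card f.fixedPoints = Nat.card (Cx x ⊓ V : Subgroup Y) := by
    rw [← Nat.card_eq_fintype_card]
    refine Nat.card_congr ⟨fun c => ⟨c.1.1, ?_, c.1.2⟩, fun c => ⟨⟨c.1, c.2.2⟩, ?_⟩, ?_, ?_⟩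
    · have hc : f c.1 = c.1 := c.2
      have h4 : x * c.1.1 * x⁻¹ = c.1.1 := congrArg Subtype.val hc
      exact mem_Cx.2 (mul_inv_eq_iff_eq_mul.1 h4)
    · have h4 : x * c.1 * x⁻¹ = c.1 := mul_inv_eq_iff_eq_mul.2 (mem_Cx.1 c.2.1)
      exact Subtype.ext h4
    · intro c; rfl
    · intro c; rfl
  rw [h2, ← Nat.card_eq_fintype_card] at h1
  exact h1

/-- `|C_V(x)| p ^ d ≤ |V|` if `x` does not centralise the `p`-group `V` and `p ^ e ≢ 1 (mod r)` for `0 < e < d` -/
theorem card_fix_le {Y : Type*} [Group Y] [Finite Y] {p r k d : ℕ} [hp : Fact p.Prime] [hr : Fact r.Prime] (hpr : p ≠ r)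
    (hd : ∀ e, 0 < e → e < d → ¬ p ^ e ≡ 1 [MOD r]) {x : Y} (hx : x ^ r ^ k = 1)
    (V : Subgroup Y) (hV : IsPGroup p V) (hxV : x ∈ Subgroup.normalizer (V : Set Y))
    (hn : ∃ v ∈ V, x * v ≠ v * x) : Nat.card (Cx x ⊓ V : Subgroup Y) * p ^ d ≤ Nat.card V := by
  have h1 := card_fix_modEq hx V hxV
  obtain ⟨a, ha⟩ := IsPGroup.iff_card.1 hV
  obtain ⟨c, hc⟩ := IsPGroup.iff_card.1 (hV.to_le (inf_le_right : Cx x ⊓ V ≤ V))
  have hlt : Nat.card (Cx x ⊓ V : Subgroup Y) < Nat.card V := by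
    obtain ⟨v, hv, hxv⟩ := hn
    refine lt_of_le_of_ne (Subgroup.card_le_of_le inf_le_right) fun h2 => hxv ?_
    have h3 : Cx x ⊓ V = V := Subgroup.eq_of_le_of_card_ge inf_le_right h2.ge
    have h4 : v ∈ Cx x ⊓ V := by rw [h3]; exact hv
    exact mem_Cx.1 h4.1
  rw [hc, ha] at hlt h1 ⊢
  have hca : c < a := (Nat.pow_lt_pow_iff_right hp.out.one_lt).1 hlt
  obtain ⟨e, rfl⟩ := Nat.exists_eq_add_of_lt hca
  have h2 : p ^ (e + 1) ≡ 1 [MOD r] := by
    have h3 : Nat.Coprime r (p ^ c) := Nat.Coprime.pow_right _ ((Nat.coprime_primes hr.out hp.out).2 (Ne.symm hpr))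
    refine Nat.ModEq.cancel_left_of_coprime (c := p ^ c) h3 ?_
    rw [mul_one, ← pow_add]
    exact h1
  have h3 : d ≤ e + 1 := by
    by_contra h4
    exact hd (e + 1) (by omega) (by omega) h2
  rw [← pow_add]
  exact Nat.pow_le_pow_right hp.out.pos (by omega)

variable {I W Y : Type*} [Fintype I] [DecidableEq I] [Group W] [Group Y] {M : CoxeterMatrix I}
  {cs : CoxeterSystem M W} {A : I → I → ℤ} {h : IsCartan M A} {p : ℕ} {T : Subgroup Y} {n : I → Y}
  {X : (I → ℤ) → Subgroup Y}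

theorem ray_empty {α : I → ℤ} (hα : α ∈ NotJ cs h (∅ : Set I)) : Ray cs h (∅ : Set I) α = {α} := by
  ext β
  constructor
  · rintro ⟨hβ, a, b, ha, hb, e⟩
    refine Nodes.Slope.eq_of_cross hβ.1 hα.1 ha hb ?_
    funext k
    simpa [smul_eq_mul] using e k (Set.notMem_empty k)
  · intro hβ
    rw [Set.mem_singleton_iff] at hβ
    subst hβ
    exact ⟨hα, 1, 1, one_pos, one_pos, fun k _ => rfl⟩

variable (R : RGD cs h p T n X)

include R

open Classical in
/-- `|⟨X β : β ∈ S⟩| ≤ ∏ |X β|` for closed sets of positive roots -/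
theorem card_Sup_le [Finite W] [Finite Y] {S : Set (I → ℤ)} (hS : Nodes.Slope.Closed cs h S) (h0 : ∀ β ∈ S, 0 ≤ β)
    (P : Finset (I → ℤ)) (hP : ∀ β, β ∈ P ↔ β ∈ S) :
    Nat.card (RGD.Sup X S) ≤ ∏ β ∈ P, Nat.card (X β) := by
  have hNJ : ∀ β, β ∈ NotJ cs h (∅ : Set I) ↔ IsRoot cs h β ∧ 0 ≤ β := by
    intro x
    constructor
    · rintro ⟨h1, h2, -⟩
      exact ⟨h1, h2⟩
    · rintro ⟨h1, h2⟩
      refine ⟨h1, h2, ?_⟩
      by_contra hcon
      push Not at hcon
      exact h1.ne_zero (le_antisymm (fun k => hcon k (Set.notMem_empty k)) h2)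
  have hJS : JSet cs h (∅ : Set I) S := by
    refine ⟨fun β hβ => (hNJ β).2 ⟨hS.root β hβ, h0 β hβ⟩, hS.btw, fun x hx => ?_, fun β hβ => ?_⟩
    · exfalso
      exact hx.1.ne_zero (funext fun k => hx.2 k (Set.notMem_empty k))
    · rw [ray_empty ((hNJ β).2 ⟨hS.root β hβ, h0 β hβ⟩)]
      rintro γ rfl
      exact hβ
  have hfin : (NotJ cs h (∅ : Set I)).Finite := (RGD.finite_roots (cs := cs) (h := h)).subset fun y hy => hy.1
  have h1 := card_JSet_le R (J := ∅) (x := 1) (one_mem _) hfin.toFinset (fun β => by simp)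
    (fun β => Nat.card (X β)) (fun α hα => by
      rw [ray_empty hα]
      refine (Subgroup.card_le_of_le (inf_le_right.trans (RGD.Sup_le ?_) : _ ≤ X α)).trans (le_of_eq ?_)
      · rintro z rfl
        exact le_rfl
      · symm
        rw [Finset.prod_filter, Finset.prod_eq_single α]
        · simp
        · intro b _ hb
          rw [if_neg (by simpa using hb)]
        · intro h3
          exact absurd (hfin.mem_toFinset.2 hα) h3) _ S hJS rfl
  have h2 : Cx (1 : Y) ⊓ RGD.Sup X S = RGD.Sup X S := by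
    refine inf_eq_right.2 fun z _ => mem_Cx.2 (by simp)
  rw [h2] at h1
  refine h1.trans (le_of_eq ?_)
  congr 1
  ext β
  rw [hP, Finset.mem_filter, Set.Finite.mem_toFinset]
  exact ⟨fun h3 => h3.2, fun h3 => ⟨hJS.sub h3, h3⟩⟩

omit R in
theorem jset_Ray {J : Set I} (α : I → ℤ) : JSet cs h J (Ray cs h J α) where
  sub := fun β hβ => hβ.1
  cl := by
    rintro x ⟨hx, a, b, ha, hb, e⟩ y ⟨hy, a', b', ha', hb', e'⟩ z hz
    refine ⟨(jset_NotJ J).cl x hx y hy z hz, ?_⟩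
    obtain ⟨-, m, c, d, hm, hc, hd, he⟩ := hz
    refine ⟨a * a' * m, a' * b * c + a * b' * d, by positivity, by positivity, fun k hk => ?_⟩
    have h1 : m * z k = c * x k + d * y k := by
      have := congrFun he k
      simpa [smul_eq_mul] using this
    have h2 := e k hk
    have h3 := e' k hk
    calc a * a' * m * z k = a * a' * (m * z k) := by ring
      _ = a' * c * (a * x k) + a * d * (a' * y k) := by rw [h1]; ring
      _ = _ := by rw [h2, h3]; ring
  st := by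
    rintro x hx y ⟨hy, a', b', ha', hb', e'⟩ z hz
    refine ⟨(jset_NotJ J).st x hx y hy z hz, ?_⟩
    obtain ⟨-, m, c, d, hm, hc, hd, he⟩ := hz
    refine ⟨a' * m, b' * d, by positivity, by positivity, fun k hk => ?_⟩
    have h1 : m * z k = c * x k + d * y k := by
      have := congrFun he k
      simpa [smul_eq_mul] using this
    rw [hx.2 k hk, mul_zero, zero_add] at h1
    calc a' * m * z k = a' * (m * z k) := by ring
      _ = d * (a' * y k) := by rw [h1]; ring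
      _ = _ := by rw [e' k hk]; ring
  sat := by
    rintro β ⟨hβ, a, b, ha, hb, e⟩ γ ⟨hγ, a', b', ha', hb', e'⟩
    refine ⟨hγ, a' * a, b' * b, by positivity, by positivity, fun k hk => ?_⟩
    calc a' * a * γ k = a * (a' * γ k) := by ring
      _ = b' * (a * β k) := by rw [e' k hk]; ring
      _ = _ := by rw [e k hk]; ring

omit R in
theorem self_mem_Ray {J : Set I} {α : I → ℤ} (hα : α ∈ NotJ cs h J) : α ∈ Ray cs h J α :=
  ⟨hα, 1, 1, one_pos, one_pos, fun _ _ => rfl⟩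

/-- an elliptic element centralising the section of a ray: `J` fixes the ray -/
theorem simple_eq_of_cent [Finite W] {J : Set I} {x : Y} (hell : Ell cs h T X J x) (hxL : x ∈ LJ cs h T X J)
    {α : I → ℤ} (hα : α ∈ NotJ cs h J) (hcent : ∀ v ∈ RGD.Sup X (Ray cs h J α), x * v = v * x) {i : I} (hi : i ∈ J)
    {β : I → ℤ} (hβ : β ∈ Ray cs h J α) : rep cs h (cs.simple i) β = β := by
  classical
  have hRay := jset_Ray (cs := cs) (h := h) (J := J) α
  set V := RGD.Sup X (Ray cs h J α) with hV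
  have hLV : LJ cs h T X J ≤ Subgroup.normalizer (V : Set Y) := hRay.norm R
  -- `K`
  set K : Subgroup Y := Subgroup.centralizer (V : Set Y) ⊓ LJ cs h T X J with hK
  have hKmem : ∀ k, k ∈ K ↔ (∀ v ∈ V, v * k = k * v) ∧ k ∈ LJ cs h T X J := fun k => by
    rw [hK, Subgroup.mem_inf, Subgroup.mem_centralizer_iff]; rfl
  have hKn : LJ cs h T X J ≤ Subgroup.normalizer (K : Set Y) := by
    have key : ∀ l ∈ LJ cs h T X J, ∀ k ∈ K, l * k * l⁻¹ ∈ K := by
      intro l hl k hk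
      rw [hKmem] at hk ⊢
      refine ⟨fun v hv => ?_, mul_mem (mul_mem hl hk.2) (inv_mem hl)⟩
      have h1 : l⁻¹ * v * l ∈ V := by
        have := (Subgroup.mem_normalizer_iff.1 (hLV (inv_mem hl)) v).1 hv
        rwa [inv_inv] at this
      have h2 := hk.1 _ h1
      calc v * (l * k * l⁻¹) = l * ((l⁻¹ * v * l) * k) * l⁻¹ := by group
        _ = l * (k * (l⁻¹ * v * l)) * l⁻¹ := by rw [h2]
        _ = _ := by group
    intro l hl
    rw [Subgroup.mem_normalizer_iff]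
    intro k
    refine ⟨key l hl k, fun h1 => ?_⟩
    have h2 := key l⁻¹ (inv_mem hl) _ h1
    have h3 : l⁻¹ * (l * k * l⁻¹) * l⁻¹⁻¹ = k := by group
    rwa [h3] at h2
  have hKL : K ≤ LJ cs h T X J := inf_le_right
  have hxK : x ∈ K := (hKmem x).2 ⟨fun v hv => (hcent v hv).symm, hxL⟩
  set Q : Subgroup Y := BJ cs h T X J ⊔ K with hQ
  have hQL : Q ≤ LJ cs h T X J := sup_le BJ_le_LJ hKL
  set P : Subgroup Y := Q ⊔ VJ cs h X J with hP
  have hPP : P ≤ PJ cs h T X J := sup_le (hQL.trans LJ_le_PJ) VJ_le_PJ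
  have hBP : RGD.B cs h T X ≤ P := by
    refine sup_le (T_le_BJ.trans (le_sup_left.trans le_sup_left)) (RGD.Sup_le fun z hz => ?_)
    rcases mem_PosJ_or_NotJ J hz.1 hz.2 with h1 | h1
    · exact (X_le_BJ h1).trans (le_sup_left.trans le_sup_left)
    · exact (RGD.le_Sup h1).trans le_sup_right
  have hPL : ∀ g ∈ P, g ∈ LJ cs h T X J → g ∈ Q := by
    intro g hg hgL
    have h1 : g ∈ ((Q ⊔ VJ cs h X J : Subgroup Y) : Set Y) := hg
    rw [Subgroup.coe_mul_of_left_le_normalizer_right _ _ (hQL.trans (LJ_le_normalizer_VJ R J)), Set.mem_mul] at h1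
    obtain ⟨q, hq, v, hv, e⟩ := h1
    have hqL : q ∈ LJ cs h T X J := hQL hq
    have h2 : v ∈ LJ cs h T X J ⊓ VJ cs h X J := by
      refine ⟨?_, hv⟩
      have h3 : v = q⁻¹ * g := by rw [← e]; group
      rw [h3]
      exact Subgroup.mul_mem _ (Subgroup.inv_mem _ hqL) hgL
    rw [LJ_inf_VJ R J, Subgroup.mem_bot] at h2
    rw [← e, h2, mul_one]
    exact hq
  have h1 := inf_eq_PJ R hBP
  have hJ0 : {i | n i ∈ P} = J := by
    refine hell _ (fun j hj => ?_) 1 ?_
    · have h2 : n j ∈ PJ cs h T X J := hPP hj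
      have h3 := (cell_mem_PJ_iff R (cell_of_rp (rp_simple cs R.nsys j))).1 h2
      by_contra hjJ
      have h4 := rep_apply_of_mem cs h h3 (sr j) hjJ
      rw [rep_simple_sr, Pi.neg_apply, sr_self] at h4
      omega
    · rw [cj_one, ← h1]
      exact ⟨(le_sup_right.trans le_sup_left : K ≤ P) hxK, LJ_le_GG hxL⟩
  have hni : n i ∈ Q := by
    refine hPL _ ?_ (n_mem_LJ R hi)
    have : i ∈ {i | n i ∈ P} := by rw [hJ0]; exact hi
    exact this
  obtain ⟨b, hb, k, hk, e⟩ : ∃ b ∈ BJ cs h T X J, ∃ k ∈ K, n i = b * k := by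
    have h2 : n i ∈ ((BJ cs h T X J ⊔ K : Subgroup Y) : Set Y) := hni
    rw [Subgroup.coe_mul_of_left_le_normalizer_right _ _ (BJ_le_LJ.trans hKn), Set.mem_mul] at h2
    obtain ⟨b, hb, k, hk, e⟩ := h2
    exact ⟨b, hb, k, hk, e.symm⟩
  -- the main step
  have key : ∀ β ∈ Ray cs h J α, 0 ≤ (rep cs h (cs.simple i) β) i - β i := by
    intro β hβ
    by_contra hlt
    push Not at hlt
    have hγ : rep cs h (cs.simple i) β ∈ Ray cs h J α := by
      obtain ⟨hβ1, a, b, ha, hb, e⟩ := hβ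
      have h2 : ∀ k, k ∉ J → rep cs h (cs.simple i) β k = β k := fun k hk =>
        rep_apply_of_mem cs h (simple_mem_WJ cs hi) β hk
      refine ⟨?_, a, b, ha, hb, fun k hk => by rw [h2 k hk, e k hk]⟩
      exact NotJ.act (simple_mem_WJ cs hi) hβ1
    obtain ⟨ell, hel⟩ : ∃ ell : (I → ℤ) →+ ℤ, ∀ γ, ell γ = β i * htJ J γ - htJ J β * γ i :=
      ⟨{ toFun := fun γ => β i * htJ J γ - htJ J β * γ i
         map_zero' := by simp
         map_add' := fun x y => by simp only [map_add, Pi.add_apply]; ring }, fun _ => rfl⟩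
    have hβJ := htJ_pos hβ.1
    have hhγ : htJ J (rep cs h (cs.simple i) β) = htJ J β := by
      rw [htJ_apply, htJ_apply]
      refine Finset.sum_congr rfl fun k _ => ?_
      by_cases hk : k ∈ J
      · rw [if_pos hk, if_pos hk]
      · rw [if_neg hk, if_neg hk]
        exact rep_apply_of_mem cs h (simple_mem_WJ cs hi) β hk
    -- `A`
    set A' := RGD.Sup X {z | z ∈ Ray cs h J α ∧ ell z ≤ 0} with hA'
    have hA'V : A' ≤ V := RGD.Sup_mono fun z hz => hz.1
    have hBA : BJ cs h T X J ≤ Subgroup.normalizer (A' : Set Y) := by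
      refine sup_le (R.T_le_normalizer fun z hz => hz.1.1.1) (RGD.Sup_le fun δ hδ => ?_)
      refine R.le_normalizer hδ.1 fun y hy => ⟨hy.1.1.1, Or.inr ⟨ne_neg_of_NotJ (PosJ_subset J hδ) hy.1.1,
        fun z hz => ⟨hRay.st δ (PosJ_subset J hδ) y hy.1 z hz, ?_⟩⟩⟩
      refine Nodes.Slope.btwn_nonpos' hz ell ?_ hy.2
      rw [hel]
      have h3 : htJ J δ = 0 := by
        have h4 := PosJ_subset J hδ
        rw [rootsJ_htJ] at h4
        exact h4.2
      rw [h3, mul_zero, zero_sub, neg_nonpos]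
      exact mul_nonneg hβJ.le (hδ.2.1 i)
    have hXβ : X β ≤ A' := RGD.le_Sup (S := {z | z ∈ Ray cs h J α ∧ ell z ≤ 0}) ⟨hβ, by rw [hel]; exact le_of_eq (by ring)⟩
    have h3 : X (rep cs h (cs.simple i) β) ≤ A' := by
      have h4 := R.conj_rp (rp_simple cs R.nsys i) hβ.1.1
      rw [← h4, e, cj_mul]
      have h5 : cj k (X β) = X β := by
        apply le_antisymm
        · rintro _ ⟨v, hv, rfl⟩
          have h6 := ((hKmem k).1 hk).1 v (hA'V (hXβ hv))
          have h7 : k * v * k⁻¹ = v := by rw [← h6]; group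
          show k * v * k⁻¹ ∈ X β
          rw [h7]; exact hv
        · intro v hv
          rw [mem_cj]
          have h6 := ((hKmem k).1 hk).1 v (hA'V (hXβ hv))
          have h7 : k⁻¹ * v * k = v := by rw [mul_assoc, h6]; group
          rw [h7]; exact hv
      rw [h5]
      refine (cj_mono b hXβ).trans (le_of_eq ?_)
      exact mem_normalizer_iff_cj.1 (hBA hb)
    refine X_ne_bot R hγ.1.1 ((Subgroup.eq_bot_iff_forall _).2 fun u hu => ?_)
    refine Nodes.Slope.sup_inf_sup' R ell (htJ J)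
      (RGD.le_Sup (S := {x | IsRoot cs h x ∧ 0 < ell x}) ⟨hγ.1.1, ?_⟩ hu)
      (RGD.Sup_mono (S' := {x | IsRoot cs h x ∧ ell x ≤ 0 ∧ 0 < htJ J x}) ?_ (h3 hu))
    · rw [hel, hhγ]
      have : β i * htJ J β - htJ J β * (rep cs h (cs.simple i) β) i =
          htJ J β * (-((rep cs h (cs.simple i) β) i - β i)) := by ring
      rw [this]
      exact mul_pos hβJ (by omega)
    · intro z hz
      exact ⟨hz.1.1.1, hz.2, htJ_pos hz.1.1⟩
  have hγ : rep cs h (cs.simple i) β ∈ Ray cs h J α := by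
    obtain ⟨hβ1, a, b, ha, hb, e⟩ := hβ
    have h2 : ∀ k, k ∉ J → rep cs h (cs.simple i) β k = β k := fun k hk =>
      rep_apply_of_mem cs h (simple_mem_WJ cs hi) β hk
    refine ⟨?_, a, b, ha, hb, fun k hk => by rw [h2 k hk, e k hk]⟩
    exact NotJ.act (simple_mem_WJ cs hi) hβ1
  have h2 := key β hβ
  have h3 := key _ hγ
  rw [← rep_mul_apply, simple_mul_simple_self, map_one, Module.End.one_apply] at h3
  rw [rep_simple_eq] at h2 h3 ⊢
  rw [Pi.sub_apply, Pi.smul_apply, sr_self, smul_eq_mul, mul_one] at h2 h3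
  have h4 : pairing A i β = 0 := by omega
  rw [h4, zero_smul, sub_zero]

open Classical in
/-- a ray moved by `J`: `|C_{V_ρ}(x)| p ^ d ≤ ∏ |X β|`, `d = ord_r(p)` -/
theorem card_Ray_mul_le [Finite W] [Finite Y] [hp : Fact p.Prime] {r k d : ℕ} [hr : Fact r.Prime] (hpr : p ≠ r)
    (hd : ∀ e, 0 < e → e < d → ¬ p ^ e ≡ 1 [MOD r]) {J : Set I} {x : Y} (hx : x ^ r ^ k = 1)
    (hell : Ell cs h T X J x) (hxL : x ∈ LJ cs h T X J) {α : I → ℤ} (hα : α ∈ NotJ cs h J) {i : I} (hi : i ∈ J)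
    (hne : rep cs h (cs.simple i) α ≠ α) (P : Finset (I → ℤ)) (hP : ∀ β, β ∈ P ↔ β ∈ Ray cs h J α) :
    Nat.card (Cx x ⊓ RGD.Sup X (Ray cs h J α) : Subgroup Y) * p ^ d ≤ ∏ β ∈ P, Nat.card (X β) := by
  have hRay := jset_Ray (cs := cs) (h := h) (J := J) α
  refine (card_fix_le (r := r) (k := k) hpr hd hx _
    (R.isPGroup_of_pos (S := Ray cs h J α) fun z hz => ⟨hz.1.1, hz.1.2.1⟩) (hRay.norm R hxL) ?_).trans
    (card_Sup_le R ⟨fun z hz => hz.1.1, hRay.cl⟩ (fun z hz => hz.1.2.1) P hP)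
  by_contra hcon
  push Not at hcon
  exact hne (simple_eq_of_cent R hell hxL hα hcon hi (self_mem_Ray hα))

open Classical in
/-- any ray: `|C_{V_ρ}(x)| ≤ ∏ |X β|` -/
theorem card_Ray_le [Finite W] [Finite Y] {J : Set I} {x : Y} {α : I → ℤ} (P : Finset (I → ℤ))
    (hP : ∀ β, β ∈ P ↔ β ∈ Ray cs h J α) :
    Nat.card (Cx x ⊓ RGD.Sup X (Ray cs h J α) : Subgroup Y) ≤ ∏ β ∈ P, Nat.card (X β) :=
  (Subgroup.card_le_of_le inf_le_right).trans
    (card_Sup_le R ⟨fun z hz => hz.1.1, (jset_Ray (J := J) α).cl⟩ (fun z hz => hz.1.2.1) P hP)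

end Cfsg.Agent.H82.TS
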