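import Mathlib

/-!
# Poincaré sums of reflection groups along a chain of functionals (T*, S5745; helper82)

`G` acts linearly on `V`, `Ψ` is a finite set of "positive roots", `ht` is positive on `Ψ`, `H ≤ G` preserves `Ψ ∪ -Ψ` and
the weights `f`. For `lam ≥ 0` on `Ψ` such that `H` contains a reflection for every `β ∈ Ψ` with `lam β = 0`:

`∑_{g ∈ H} ∏_{β ∈ Ψ, g β < 0} f β ≤ (∑_{μ ∈ L} ∏_{β ∈ Ψ, μ β < 0} f β) ∑_{g ∈ H, lam g = lam} ∏_{β ∈ Ψ, lam β = 0, g β < 0} f β`,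
`L` a finite set of functionals containing the orbit of `lam`.
-/

set_option autoImplicit false

namespace Cfsg.Agent.H82.TS.Poin

variable {G V : Type*} [Group G] [AddCommGroup V]

/-- `H` preserves `Ψ ∪ -Ψ` and the weights -/
structure Sys (ρ : G →* AddMonoid.End V) (H : Subgroup G) (Ψ : Finset V) (ht : V →+ ℤ) (f : V → ℕ) : Prop where
  pos : ∀ β ∈ Ψ, 0 < ht β
  act : ∀ g ∈ H, ∀ β ∈ Ψ, ρ g β ∈ Ψ ∨ -(ρ g β) ∈ Ψ
  inv : ∀ g ∈ H, ∀ β ∈ Ψ, ρ g β ∈ Ψ → f (ρ g β) = f β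

/-- the inversions of `g` -/
def N (ρ : G →* AddMonoid.End V) (Ψ : Finset V) (ht : V →+ ℤ) (g : G) : Finset V := Ψ.filter (fun β => ht (ρ g β) < 0)

/-- the weight of `g` -/
def wt (ρ : G →* AddMonoid.End V) (Ψ : Finset V) (ht : V →+ ℤ) (f : V → ℕ) (g : G) : ℕ := ∏ β ∈ N ρ Ψ ht g, f β

variable {ρ : G →* AddMonoid.End V} {H : Subgroup G} {Ψ : Finset V} {ht : V →+ ℤ} {f : V → ℕ}

theorem mul_apply (g k : G) (x : V) : ρ (g * k) x = ρ g (ρ k x) := by rw [map_mul]; rfl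

theorem inv_apply (g : G) (x : V) : ρ g⁻¹ (ρ g x) = x := by rw [← mul_apply, inv_mul_cancel, map_one]; rfl

theorem apply_inv (g : G) (x : V) : ρ g (ρ g⁻¹ x) = x := by rw [← mul_apply, mul_inv_cancel, map_one]; rfl

/-- `t` is a reflection along `β` -/
def IsRefl (ρ : G →* AddMonoid.End V) (t : G) (β : V) : Prop :=
  ∃ c : V →+ ℤ, c β = 2 ∧ ∀ x, ρ t x = x - c x • β

variable (hS : Sys ρ H Ψ ht f)

include hS

theorem ne_zero {g : G} (hg : g ∈ H) {β : V} (hβ : β ∈ Ψ) : ht (ρ g β) ≠ 0 := by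
  rcases hS.act g hg β hβ with h | h
  · exact (hS.pos _ h).ne'
  · have := hS.pos _ h
    rw [map_neg] at this
    omega

theorem mem_of_pos {g : G} (hg : g ∈ H) {β : V} (hβ : β ∈ Ψ) (h0 : 0 < ht (ρ g β)) : ρ g β ∈ Ψ := by
  rcases hS.act g hg β hβ with h | h
  · exact h
  · have := hS.pos _ h
    rw [map_neg] at this
    omega

theorem mem_of_neg {g : G} (hg : g ∈ H) {β : V} (hβ : β ∈ Ψ) (h0 : ht (ρ g β) < 0) : -(ρ g β) ∈ Ψ := by
  rcases hS.act g hg β hβ with h | h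
  · have := hS.pos _ h
    omega
  · exact h

/-- a reflection shortening `g` -/
theorem card_lt {g t : G} (hg : g ∈ H) (ht' : t ∈ H) {β : V} (hβ : β ∈ Ψ) (hgβ : ht (ρ g β) < 0)
    (hr : IsRefl ρ t (-(ρ g β))) : (N ρ Ψ ht (t * g)).card < (N ρ Ψ ht g).card := by
  classical
  obtain ⟨c, hc2, hc⟩ := hr
  have hc2' : c (ρ g β) = -2 := by rw [map_neg] at hc2; omega
  have htg : ∀ x, ρ (t * g) x = ρ g x + c (ρ g x) • ρ g β := fun x => by
    rw [mul_apply, hc, smul_neg, sub_neg_eq_add]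
  -- `s = g⁻¹ t g`
  set s : V → V := fun δ => δ + c (ρ g δ) • β with hs
  have hgs : ∀ δ, ρ g (s δ) = ρ (t * g) δ := fun δ => by
    rw [hs, htg, map_add, map_zsmul]
  have hcs : ∀ δ, c (ρ g (s δ)) = - c (ρ g δ) := fun δ => by
    rw [hgs, htg, map_add, map_zsmul, hc2', smul_eq_mul]; ring
  have hss : ∀ δ, s (s δ) = δ := fun δ => by
    show s δ + c (ρ g (s δ)) • β = δ
    rw [hcs, neg_smul]
    show δ + c (ρ g δ) • β + -(c (ρ g δ) • β) = δ
    rw [add_neg_cancel_right]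
  have hsβ : s β = -β := by
    show β + c (ρ g β) • β = -β
    rw [hc2', neg_smul, two_smul]; abel
  have hsΨ : ∀ δ ∈ Ψ, s δ ∈ Ψ ∨ -(s δ) ∈ Ψ := fun δ hδ => by
    have h1 := hS.act (g⁻¹ * (t * g)) (H.mul_mem (H.inv_mem hg) (H.mul_mem ht' hg)) δ hδ
    have h2 : ρ (g⁻¹ * (t * g)) δ = s δ := by
      rw [mul_apply, ← hgs, inv_apply]
    rwa [h2] at h1
  have hneg : ∀ δ ∈ N ρ Ψ ht (t * g), δ ∈ Ψ ∧ ht (ρ (t * g) δ) < 0 := fun δ hδ => Finset.mem_filter.1 hδ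
  have hne : ∀ δ ∈ N ρ Ψ ht (t * g), δ ≠ β := by
    rintro δ hδ rfl
    have h1 := (hneg _ hδ).2
    rw [← hgs, hsβ, map_neg, map_neg] at h1
    omega
  have hβN : β ∈ N ρ Ψ ht g := Finset.mem_filter.2 ⟨hβ, hgβ⟩
  have hlt := Finset.card_erase_lt_of_mem hβN
  refine lt_of_le_of_lt (Finset.card_le_card_of_injOn (fun δ => if 0 < ht (s δ) then s δ else δ) ?_ ?_) hlt
  · intro δ hδ
    have hδ' : δ ∈ N ρ Ψ ht (t * g) := hδ
    obtain ⟨hδΨ, h1⟩ := hneg δ hδ'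
    have hδβ := hne δ hδ'
    show (if 0 < ht (s δ) then s δ else δ) ∈ ((N ρ Ψ ht g).erase β : Finset V)
    by_cases h2 : 0 < ht (s δ)
    · rw [if_pos h2]
      refine Finset.mem_erase.2 ⟨?_, Finset.mem_filter.2 ⟨?_, ?_⟩⟩
      · intro h3
        have h4 : δ = -β := by rw [← hss δ, h3, hsβ]
        have h5 := hS.pos δ hδΨ
        have h6 := hS.pos β hβ
        rw [h4, map_neg] at h5
        omega
      · rcases hsΨ δ hδΨ with h3 | h3
        · exact h3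
        · have := hS.pos _ h3
          rw [map_neg] at this
          omega
      · rw [hgs]; exact h1
    · rw [if_neg h2]
      refine Finset.mem_erase.2 ⟨hδβ, Finset.mem_filter.2 ⟨hδΨ, ?_⟩⟩
      have h3 : ht (s δ) = ht δ + c (ρ g δ) * ht β := by
        show ht (δ + c (ρ g δ) • β) = _
        rw [map_add, map_zsmul, smul_eq_mul]
      have h4 := hS.pos δ hδΨ
      have h5 := hS.pos β hβ
      have h6 : c (ρ g δ) < 0 := by
        by_contra h7
        push Not at h7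
        have := mul_nonneg h7 h5.le
        omega
      have h7 : ht (ρ (t * g) δ) = ht (ρ g δ) + c (ρ g δ) * ht (ρ g β) := by
        rw [htg, map_add, map_zsmul, smul_eq_mul]
      have h8 := mul_pos_of_neg_of_neg h6 hgβ
      omega
  · intro δ hδ δ' hδ' he
    have hδ1 : δ ∈ N ρ Ψ ht (t * g) := hδ
    have hδ2 : δ' ∈ N ρ Ψ ht (t * g) := hδ'
    have h1 := hS.pos δ (hneg δ hδ1).1
    have h1' := hS.pos δ' (hneg δ' hδ2).1
    have he' : (if 0 < ht (s δ) then s δ else δ) = (if 0 < ht (s δ') then s δ' else δ') := he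
    by_cases h2 : 0 < ht (s δ)
    · by_cases h3 : 0 < ht (s δ')
      · rw [if_pos h2, if_pos h3] at he'
        rw [← hss δ, he', hss]
      · rw [if_pos h2, if_neg h3] at he'
        exfalso
        rw [← he', hss] at h3
        exact h3 h1
    · by_cases h3 : 0 < ht (s δ')
      · rw [if_neg h2, if_pos h3] at he'
        exfalso
        rw [he', hss] at h2
        exact h2 h1'
      · rw [if_neg h2, if_neg h3] at he'
        exact he'

/-- minimal elements -/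
theorem exists_min {lam mu : V →+ ℤ}
    (hrefl : ∀ β ∈ Ψ, lam β = 0 → ∃ t ∈ H, (∀ x, lam (ρ t x) = lam x) ∧ IsRefl ρ t β)
    {g₀ : G} (hg₀ : g₀ ∈ H) (hmu : ∀ x, lam (ρ g₀ x) = mu x) :
    ∃ g ∈ H, (∀ x, lam (ρ g x) = mu x) ∧ ∀ β ∈ Ψ, mu β = 0 → 0 < ht (ρ g β) := by
  classical
  induction hn : (N ρ Ψ ht g₀).card using Nat.strong_induction_on generalizing g₀ with
  | _ n ih =>
    by_cases hall : ∀ β ∈ Ψ, mu β = 0 → 0 < ht (ρ g₀ β)
    · exact ⟨g₀, hg₀, hmu, hall⟩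
    · push Not at hall
      obtain ⟨β, hβ, h0, h1⟩ := hall
      have h2 : ht (ρ g₀ β) < 0 := lt_of_le_of_ne h1 (ne_zero hS hg₀ hβ)
      have h3 := mem_of_neg hS hg₀ hβ h2
      have h4 : lam (-(ρ g₀ β)) = 0 := by rw [map_neg, hmu, h0, neg_zero]
      obtain ⟨t, ht', htl, htr⟩ := hrefl _ h3 h4
      have h5 := card_lt hS hg₀ ht' hβ h2 htr
      exact ih _ (by omega) (g₀ := t * g₀) (H.mul_mem ht' hg₀) (fun x => by rw [mul_apply, htl, hmu]) rfl

/-- the weight of `b g` -/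
theorem wt_mul {lam mu : V →+ ℤ} (hlam : ∀ β ∈ Ψ, 0 ≤ lam β) {g b : G} (hg : g ∈ H) (hb : b ∈ H)
    (hgl : ∀ x, lam (ρ g x) = mu x) (hgm : ∀ β ∈ Ψ, mu β = 0 → 0 < ht (ρ g β)) (hbl : ∀ x, lam (ρ b x) = lam x) :
    wt ρ Ψ ht f (b * g) = (∏ β ∈ Ψ.filter (fun β => mu β < 0), f β) *
      wt ρ (Ψ.filter (fun β => lam β = 0)) ht f b := by
  classical
  have hbg : b * g ∈ H := H.mul_mem hb hg
  have h1 : N ρ Ψ ht (b * g) = Ψ.filter (fun β => mu β < 0) ∪
      Ψ.filter (fun β => mu β = 0 ∧ ht (ρ (b * g) β) < 0) := by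
    ext β
    simp only [N, Finset.mem_filter, Finset.mem_union]
    constructor
    · rintro ⟨hβ, h2⟩
      rcases lt_trichotomy (mu β) 0 with h3 | h3 | h3
      · exact Or.inl ⟨hβ, h3⟩
      · exact Or.inr ⟨hβ, h3, h2⟩
      · exfalso
        have h4 := hlam _ (mem_of_neg hS hbg hβ h2)
        rw [map_neg, mul_apply, hbl, hgl] at h4
        omega
    · rintro (⟨hβ, h3⟩ | ⟨hβ, -, h2⟩)
      · refine ⟨hβ, ?_⟩
        rcases lt_or_gt_of_ne (ne_zero hS hbg hβ) with h4 | h4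
        · exact h4
        · exfalso
          have h5 := hlam _ (mem_of_pos hS hbg hβ h4)
          rw [mul_apply, hbl, hgl] at h5
          omega
      · exact ⟨hβ, h2⟩
  have hdis : Disjoint (Ψ.filter (fun β => mu β < 0)) (Ψ.filter (fun β => mu β = 0 ∧ ht (ρ (b * g) β) < 0)) := by
    rw [Finset.disjoint_left]
    intro β hβ hβ'
    have h2 := (Finset.mem_filter.1 hβ).2
    have h3 := (Finset.mem_filter.1 hβ').2.1
    omega
  rw [wt, h1, Finset.prod_union hdis]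
  congr 1
  -- `β ↦ g β`
  refine Finset.prod_bij (fun β _ => ρ g β) ?_ ?_ ?_ ?_
  · intro β hβ
    obtain ⟨hβ, h2, h3⟩ := Finset.mem_filter.1 hβ
    have h4 := mem_of_pos hS hg hβ (hgm β hβ h2)
    rw [N, Finset.mem_filter, Finset.mem_filter]
    refine ⟨⟨h4, by rw [hgl, h2]⟩, ?_⟩
    rw [mul_apply] at h3
    exact h3
  · intro β _ β' _ he
    have h2 := congrArg (ρ g⁻¹) he
    rwa [inv_apply, inv_apply] at h2
  · intro γ hγ
    rw [N, Finset.mem_filter, Finset.mem_filter] at hγ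
    obtain ⟨⟨hγ, h2⟩, h3⟩ := hγ
    refine ⟨ρ g⁻¹ γ, ?_, apply_inv g γ⟩
    have h4 : mu (ρ g⁻¹ γ) = 0 := by rw [← hgl, apply_inv, h2]
    have h5 : ρ g⁻¹ γ ∈ Ψ := by
      rcases hS.act g⁻¹ (H.inv_mem hg) γ hγ with h6 | h6
      · exact h6
      · exfalso
        have h7 := hgm _ h6 (by rw [map_neg, h4, neg_zero])
        rw [map_neg, apply_inv, map_neg] at h7
        have := hS.pos γ hγ
        omega
    rw [Finset.mem_filter]
    refine ⟨h5, h4, ?_⟩
    rw [mul_apply, apply_inv]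
    exact h3
  · intro β hβ
    obtain ⟨hβ, h2, h3⟩ := Finset.mem_filter.1 hβ
    exact (hS.inv g hg β hβ (mem_of_pos hS hg hβ (hgm β hβ h2))).symm

/-- **One step of the chain.** -/
theorem step {lam : V →+ ℤ} (hlam : ∀ β ∈ Ψ, 0 ≤ lam β)
    (hrefl : ∀ β ∈ Ψ, lam β = 0 → ∃ t ∈ H, (∀ x, lam (ρ t x) = lam x) ∧ IsRefl ρ t β)
    {ι : Type*} (L : Finset ι) (e : ι → V →+ ℤ) (hL : ∀ g ∈ H, ∃ i ∈ L, ∀ x, lam (ρ g x) = e i x)
    (S S' : Finset G) (hSH : ∀ g ∈ S, g ∈ H) (hS' : ∀ g ∈ H, (∀ x, lam (ρ g x) = lam x) → g ∈ S') :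
    ∑ g ∈ S, wt ρ Ψ ht f g ≤ (∑ i ∈ L, ∏ β ∈ Ψ.filter (fun β => e i β < 0), f β) *
      ∑ b ∈ S', wt ρ (Ψ.filter (fun β => lam β = 0)) ht f b := by
  classical
  choose idx hidx1 hidx2 using hL
  let i0 : G → Option ι := fun g => if hg : g ∈ H then some (idx g hg) else none
  have hi0 : ∀ g (hg : g ∈ H), i0 g = some (idx g hg) := fun g hg => dif_pos hg
  have h1 : ∑ g ∈ S, wt ρ Ψ ht f g = ∑ i ∈ L, ∑ g ∈ S.filter (fun g => i0 g = some i), wt ρ Ψ ht f g := by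
    rw [← Finset.sum_fiberwise_of_maps_to (s := S) (t := L.image some) (g := i0)]
    · rw [Finset.sum_image (fun a _ b _ hab => Option.some_injective _ hab)]
    · intro g hg
      rw [hi0 g (hSH g hg)]
      exact Finset.mem_image_of_mem _ (hidx1 g (hSH g hg))
  rw [h1, Finset.sum_mul]
  refine Finset.sum_le_sum fun i hi => ?_
  rcases (S.filter (fun g => i0 g = some i)).eq_empty_or_nonempty with h2 | ⟨g₀, hg₀⟩
  · rw [h2, Finset.sum_empty]
    exact Nat.zero_le _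
  have hfib : ∀ g ∈ S.filter (fun g => i0 g = some i), g ∈ H ∧ ∀ x, lam (ρ g x) = e i x := by
    intro g hg
    obtain ⟨hg1, hg2⟩ := Finset.mem_filter.1 hg
    have hgH := hSH g hg1
    rw [hi0 g hgH, Option.some.injEq] at hg2
    refine ⟨hgH, fun x => ?_⟩
    rw [hidx2 g hgH x, hg2]
  obtain ⟨m, hmH, hml, hmm⟩ := exists_min hS hrefl (hfib g₀ hg₀).1 (hfib g₀ hg₀).2
  have h3 : ∀ g ∈ S.filter (fun g => i0 g = some i), wt ρ Ψ ht f g =
      (∏ β ∈ Ψ.filter (fun β => e i β < 0), f β) * wt ρ (Ψ.filter (fun β => lam β = 0)) ht f (g * m⁻¹) := by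
    intro g hg
    have h4 : g = (g * m⁻¹) * m := by group
    conv_lhs => rw [h4]
    refine wt_mul hS hlam hmH (H.mul_mem (hfib g hg).1 (H.inv_mem hmH)) hml hmm fun x => ?_
    rw [mul_apply, (hfib g hg).2, ← hml, apply_inv]
  rw [Finset.sum_congr rfl h3, ← Finset.mul_sum]
  refine Nat.mul_le_mul_left _ ?_
  rw [← Finset.sum_image (s := S.filter (fun g => i0 g = some i)) (g := fun g => g * m⁻¹)
    (f := fun b => wt ρ (Ψ.filter (fun β => lam β = 0)) ht f b) (fun a _ b _ hab => mul_right_cancel hab)]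
  refine Finset.sum_le_sum_of_subset fun b hb => ?_
  obtain ⟨g, hg, rfl⟩ := Finset.mem_image.1 hb
  refine hS' _ (H.mul_mem (hfib g hg).1 (H.inv_mem hmH)) fun x => ?_
  rw [mul_apply, (hfib g hg).2, ← hml, apply_inv]

/-- the system of the stabiliser of `lam` -/
theorem sys_stab {H' : Subgroup G} {lam : V →+ ℤ} (hH' : ∀ g ∈ H', g ∈ H ∧ ∀ x, lam (ρ g x) = lam x) [DecidableEq V] :
    Sys ρ H' (Ψ.filter (fun β => lam β = 0)) ht f where
  pos := fun β hβ => hS.pos β (Finset.mem_filter.1 hβ).1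
  act := fun g hg β hβ => by
    obtain ⟨hβ, h0⟩ := Finset.mem_filter.1 hβ
    rcases hS.act g (hH' g hg).1 β hβ with h | h
    · exact Or.inl (Finset.mem_filter.2 ⟨h, by rw [(hH' g hg).2, h0]⟩)
    · exact Or.inr (Finset.mem_filter.2 ⟨h, by rw [map_neg, (hH' g hg).2, h0, neg_zero]⟩)
  inv := fun g hg β hβ h => hS.inv g (hH' g hg).1 β (Finset.mem_filter.1 hβ).1 (Finset.mem_filter.1 h).1

/-- a class of functionals closed under the reflections of `Ψ` is closed under `H`, if only `1` preserves `Ψ` -/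
theorem orbit {C : (V →+ ℤ) → Prop}
    (hcl : ∀ β ∈ Ψ, ∃ t ∈ H, IsRefl ρ t β ∧ ∀ mu, C mu → C (mu.comp (ρ t)))
    (huniq : ∀ g ∈ H, (∀ β ∈ Ψ, 0 < ht (ρ g β)) → ∀ x, ρ g x = x) :
    ∀ g ∈ H, ∀ mu, C mu → C (mu.comp (ρ g)) := by
  classical
  intro g
  induction hn : (N ρ Ψ ht g).card using Nat.strong_induction_on generalizing g with
  | _ n ih =>
    intro hg mu hmu
    by_cases hall : ∀ β ∈ Ψ, 0 < ht (ρ g β)
    · have h1 : mu.comp (ρ g) = mu := by
        ext x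
        exact congrArg mu (huniq g hg hall x)
      rwa [h1]
    · push Not at hall
      obtain ⟨β, hβ, h1⟩ := hall
      have h2 : ht (ρ g β) < 0 := lt_of_le_of_ne h1 (ne_zero hS hg hβ)
      obtain ⟨t, ht', htr, htC⟩ := hcl _ (mem_of_neg hS hg hβ h2)
      have h5 := card_lt hS hg ht' hβ h2 htr
      have h6 := ih _ (by omega) (t * g) rfl (H.mul_mem ht' hg) _ (htC mu hmu)
      have h7 : (mu.comp (ρ t)).comp (ρ (t * g)) = mu.comp (ρ g) := by
        ext x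
        show mu (ρ t (ρ (t * g) x)) = mu (ρ g x)
        obtain ⟨c, hc2, hc⟩ := htr
        have h8 : ∀ y, ρ t (ρ t y) = y := fun y => by
          rw [hc (ρ t y), hc y, map_sub, map_zsmul, hc2, smul_eq_mul]
          have : y - c y • -(ρ g) β - (c y - c y * 2) • -(ρ g) β = y := by
            rw [show c y - c y * 2 = - c y by ring, neg_smul]; abel
          exact this
        rw [mul_apply, h8]
      rwa [h7] at h6

omit hS in
theorem wt_empty (g : G) : wt ρ (∅ : Finset V) ht f g = 1 := by simp [wt, N]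

omit hS in
/-- constant weights -/
theorem wt_const {q : ℕ} (g : G) : wt ρ Ψ ht (fun _ => q) g = q ^ (Ψ.filter (fun β => ht (ρ g β) < 0)).card := by
  simp [wt, N]

end Cfsg.Agent.H82.TS.Poin
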